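import Cfsg.Agent.SuzukiSub.Standard

/-!
# The subgroups of `Cfsg.Sz`
-/

set_option autoImplicit false
set_option linter.unusedSectionVars false

namespace CfsgLib.SuzukiSub

open CfsgLib.Suzuki CfsgLib.SuzukiLocal MulAction

variable {F : Type*} [Field F] [Fintype F] {m : ℕ} {hS : SzField F m}
  {M : Subgroup (Cfsg.Sz F m)}

theorem mem_map_conj {g h : Cfsg.Sz F m} :
    h ∈ M.map (MulAut.conj g).toMonoidHom ↔ g⁻¹ * h * g ∈ M := by
  rw [Subgroup.mem_map_equiv, MulAut.conj_symm_apply]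

theorem NoFix.map (hM : NoFix M) (g : Cfsg.Sz F m) :
    NoFix (M.map (MulAut.conj g).toMonoidHom) := by
  intro p
  obtain ⟨h, hh, hne⟩ := hM (g⁻¹ • p)
  refine ⟨g * h * g⁻¹, ?_, fun e => hne ?_⟩
  · exact ⟨h, hh, rfl⟩
  · have := conj_mem_stabilizer (k := g⁻¹) e
    rwa [show g⁻¹ * (g * h * g⁻¹) * g⁻¹⁻¹ = h by group] at this

theorem map_conj_conj (g h : Cfsg.Sz F m) :
    (M.map (MulAut.conj g).toMonoidHom).map (MulAut.conj h).toMonoidHom =
      M.map (MulAut.conj (h * g)).toMonoidHom := by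
  ext x
  rw [mem_map_conj, mem_map_conj, mem_map_conj]
  rw [show g⁻¹ * (h⁻¹ * x * h) * g = (h * g)⁻¹ * x * (h * g) by group]

variable {A : Fin 3 → Subgroup (Cfsg.Sz F m)}

/-- Two central coordinates only: a torus is invariant. -/
theorem small (hA : Tori hS A) (hM : NoFix M) {b₀ : F} (h0 : b₀ ≠ 0)
    (hb₀ : b₀ ∈ centParam hS M) (h4 : Nat.card (centParam hS M) < 4) :
    ∃ x : Idx A, M ≤ stabilizer (Cfsg.Sz F m) x.2 := by
  classical
  obtain ⟨hc, htr⟩ := centParam_eq hM h0 hb₀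
  set V := centParam hS M
  have hd : Nat.card V ∣ 2 ^ (2 * m + 1) := by
    rw [← hS.card_eq, ← Nat.card_eq_fintype_card]
    exact AddSubgroup.card_addSubgroup_dvd_card V
  obtain ⟨j, -, hj⟩ := (Nat.dvd_prime_pow Nat.prime_two).1 hd
  have hpos : 0 < Nat.card (torParam hS M) := Nat.card_pos
  have hz : Nat.card V = 2 := by
    rw [hj] at h4 hc ⊢
    rcases j with _ | _ | j
    · omega
    · rfl
    · have : 1 ≤ 2 ^ j := Nat.one_le_two_pow
      rw [pow_succ, pow_succ] at h4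
      omega
  have ht : Nat.card (torParam hS M) = 1 := by omega
  have hVsub : ∀ b ∈ V, b = 0 ∨ b = b₀ := by
    intro b hb
    by_contra hn
    push Not at hn
    obtain ⟨μ, hμ, e⟩ := htr b hb hn.1
    have h1 : torParam hS M = ⊥ := Subgroup.eq_bot_of_card_eq _ ht
    rw [h1, Subgroup.mem_bot] at hμ
    subst hμ
    exact hn.2 (by simpa using e)
  have hW : ∀ a ∈ firstParam hS M, ∀ a' ∈ firstParam hS M, a ≠ 0 → a' ≠ 0 → a = a' := by
    rintro a ⟨b, hb⟩ a' ⟨b', hb'⟩ ha ha'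
    have hsq : ∀ a b : F, uniEl hS a b ∈ M → a ≠ 0 → θ m a * a = b₀ := by
      intro a b hb ha
      have h2 := M.mul_mem hb hb
      rw [uniEl_sq hS] at h2
      exact (hVsub _ h2).resolve_left (mul_ne_zero (fun e => ha (θ_eq_zero.1 e)) ha)
    refine self_mul_θ_injective hS ?_
    show a * θ m a = a' * θ m a'
    rw [mul_comm a, mul_comm a', hsq a b hb ha, hsq a' b' hb' ha']
  obtain ⟨R, n, hR, hfacts, -, -, hn2, hMc, heq⟩ := equation hA hM h0 hb₀
  rw [card_inf_uniSub, hz, ht, mul_one] at hMc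
  rw [card_inf_uniSub, hz] at heq
  have hnQ : (2 : ℚ) ≤ n := by exact_mod_cast hn2
  have hsol : ∀ w : ℕ, w * 2 = 2 ∨ w * 2 = 4 → Nat.card (firstParam hS M) = w →
      (w * 2 = 2 → ∀ r ∈ R, classE M r ≠ 4) → ∃ x : Idx A, M ≤ stabilizer (Cfsg.Sz F m) x.2 := by
    intro w hw hfw hfour
    rw [hfw] at hMc heq
    have hsum : ∑ x ∈ R, wgt (classE M x) (classA M x) =
        1 / ((w * 2 : ℕ) : ℚ) - 1 / (((w * 2 : ℕ) : ℚ) * n) := by
      have hcast : (Nat.card M : ℚ) = n * ((w * 2 : ℕ) : ℚ) := by exact_mod_cast hMc.symm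
      rw [hcast] at heq
      have hw0 : (0 : ℚ) < ((w * 2 : ℕ) : ℚ) := by
        have : 0 < w * 2 := by omega
        exact_mod_cast this
      field_simp at heq ⊢
      linarith
    obtain ⟨r, hr, hra⟩ := small_case hR hw hn2 hfour hsum
    refine ⟨r, NoFix.le_stab_of_card ?_⟩
    rw [(hfacts r hr).1, hra, mul_comm, hMc]
  by_cases hW0 : ∀ a ∈ firstParam hS M, a = 0
  · refine hsol 1 (Or.inl rfl) ?_ fun _ r hr e => ?_
    · have hset : firstParam hS M = {0} :=
        Set.eq_singleton_iff_unique_mem.2 ⟨⟨0, by rw [uniEl_zero]; exact M.one_mem⟩, hW0⟩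
      rw [hset, Nat.card_eq_fintype_card]
      simp
    · obtain ⟨a, ha, ha0⟩ := (hfacts r hr).2.2.2 e
      exact ha0 (hW0 a ha)
  · push Not at hW0
    obtain ⟨a₀, ha₀, ha00⟩ := hW0
    refine hsol 2 (Or.inr rfl) ?_ (fun h => absurd h (by norm_num))
    have hset : firstParam hS M = {0, a₀} := by
      ext a
      simp only [Set.mem_insert_iff, Set.mem_singleton_iff]
      refine ⟨fun ha => or_iff_not_imp_left.2 fun h => hW a ha a₀ ha₀ h ha00, ?_⟩
      rintro (rfl | rfl)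
      · exact ⟨0, by rw [uniEl_zero]; exact M.one_mem⟩
      · exact ha₀
    rw [hset, Nat.card_coe_set_eq, Set.ncard_pair (Ne.symm ha00)]

/-- Bring a subgroup to standard position. -/
theorem exists_standard (hM : NoFix M) {b₀ : F} (h0 : b₀ ≠ 0) (hb₀ : b₀ ∈ centParam hS M)
    (h4 : 4 ≤ Nat.card (centParam hS M)) :
    ∃ g : Cfsg.Sz F m, (1 : F) ∈ centParam hS (M.map (MulAut.conj g).toMonoidHom) ∧
      4 ≤ Nat.card (centParam hS (M.map (MulAut.conj g).toMonoidHom)) ∧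
      ∀ μ : Fˣ, μ ∈ torParam hS (M.map (MulAut.conj g).toMonoidHom) →
        torSz hS μ ∈ M.map (MulAut.conj g).toMonoidHom := by
  classical
  -- scale
  obtain ⟨l, hl⟩ := self_mul_θ_surjective hS b₀⁻¹
  have hl' : l * θ m l = b₀⁻¹ := hl
  have hl0 : l ≠ 0 := fun e => by
    rw [e, zero_mul] at hl'
    exact inv_ne_zero h0 hl'.symm
  set L := Units.mk0 l hl0
  set g₁ := torSz hS L
  set M₁ := M.map (MulAut.conj g₁).toMonoidHom with hM₁
  have hcent : ∀ b ∈ centParam hS M, l * θ m l * b ∈ centParam hS M₁ := by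
    intro b hb
    rw [mem_centParam, hM₁, mem_map_conj]
    have e : g₁ * uniEl hS 0 b * g₁⁻¹ = uniEl hS 0 (l * θ m l * b) := by
      rw [torSz_conj_uniEl, mul_zero, Units.val_mk0]
    rw [← e, show g₁⁻¹ * (g₁ * uniEl hS 0 b * g₁⁻¹) * g₁ = uniEl hS 0 b by group]
    exact hb
  have h11 : (1 : F) ∈ centParam hS M₁ := by
    have := hcent b₀ hb₀
    rwa [hl', inv_mul_cancel₀ h0] at this
  have h41 : 4 ≤ Nat.card (centParam hS M₁) := by
    refine h4.trans (Nat.card_le_card_of_injective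
      (fun b : centParam hS M => (⟨_, hcent b b.2⟩ : centParam hS M₁)) fun b c e => Subtype.ext ?_)
    exact mul_left_cancel₀ (show l * θ m l ≠ 0 by rw [hl']; exact inv_ne_zero h0)
      (congrArg Subtype.val e)
  have hM1 : NoFix M₁ := hM.map g₁
  obtain ⟨hc, -⟩ := centParam_eq hM1 one_ne_zero h11
  -- straighten a generator of the torus components
  obtain ⟨⟨μ, hμI⟩, hgen⟩ := IsCyclic.exists_generator (α := torParam hS M₁)
  have hμ1 : μ ≠ 1 := by
    intro e
    subst e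
    have : Nat.card (torParam hS M₁) ≤ 1 := by
      rw [Finite.card_le_one_iff_subsingleton]
      refine ⟨fun x y => ?_⟩
      obtain ⟨i, hi⟩ := Subgroup.mem_zpowers_iff.1 (hgen x)
      obtain ⟨i', hi'⟩ := Subgroup.mem_zpowers_iff.1 (hgen y)
      rw [← hi, ← hi']
      apply Subtype.ext
      simp
    omega
  obtain ⟨a, b, hab⟩ := mem_torParam.1 hμI
  haveI := hS.charP
  have hd1 : (1 : F) - μ ≠ 0 := fun e => hμ1 (Units.ext (sub_eq_zero.1 e).symm)
  have hd2 : (1 : F) + (μ : F) * θ m (μ : F) ≠ 0 := fun h' => hμ1 (Units.ext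
    (self_mul_θ_injective hS (by simpa using (CharTwo.add_eq_zero.1 h').symm)))
  set c : F := -a / (1 - μ) with hc'
  set κ : F := (μ : F) * θ m (μ : F)
  set d : F := -(b + θ m c * a + κ * (θ m c * c) + θ m (c + a) * ((μ : F) * c)) / (1 + κ) with hd'
  set u := uniEl hS c d
  have hconj : u * (uniEl hS a b * torSz hS μ) * u⁻¹ = torSz hS μ := by
    have e1 : (u⁻¹ : Cfsg.Sz F m) = uniEl hS c (d + θ m c * c) := by
      rw [inv_eq_iff_mul_eq_one, uniEl_mul, ← uniEl_zero hS, uniEl_eq_iff]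
      refine ⟨CharTwo.add_self_eq_zero c, ?_⟩
      linear_combination (d + θ m c * c) * hS.two_eq_zero
    calc u * (uniEl hS a b * torSz hS μ) * u⁻¹
        = u * uniEl hS a b * (torSz hS μ * u⁻¹ * (torSz hS μ)⁻¹) * torSz hS μ := by group
      _ = torSz hS μ := by
        rw [e1, torSz_conj_uniEl, uniEl_mul, uniEl_mul,
          show c + a + (μ : F) * c = 0 by
            have : c * (1 - μ) = -a := by rw [hc', div_mul_cancel₀ _ hd1]
            linear_combination this + (μ : F) * c * hS.two_eq_zero,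
          show d + b + θ m c * a + (μ : F) * θ m (μ : F) * (d + θ m c * c) +
              θ m (c + a) * ((μ : F) * c) = 0 by
            have : d * (1 + κ) = -(b + θ m c * a + κ * (θ m c * c) + θ m (c + a) * ((μ : F) * c)) := by
              rw [hd', div_mul_cancel₀ _ hd2]
            linear_combination this,
          uniEl_zero, one_mul]
  refine ⟨u * g₁, ?_⟩
  rw [← map_conj_conj, ← hM₁]
  set M₂ := M₁.map (MulAut.conj u).toMonoidHom with hM₂
  have hcent2 : ∀ b ∈ centParam hS M₁, b ∈ centParam hS M₂ := by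
    intro e he
    rw [mem_centParam, hM₂, mem_map_conj]
    have e2 : u * uniEl hS 0 e * u⁻¹ = uniEl hS 0 e := by
      rw [mul_inv_eq_iff_eq_mul, uniEl_mul, uniEl_mul, uniEl_eq_iff]
      exact ⟨by ring, by rw [θ_zero]; ring⟩
    rw [← e2, show u⁻¹ * (u * uniEl hS 0 e * u⁻¹) * u = uniEl hS 0 e by group]
    exact he
  refine ⟨hcent2 1 h11, h41.trans (Nat.card_le_card_of_injective
    (fun b : centParam hS M₁ => (⟨b, hcent2 b b.2⟩ : centParam hS M₂))
    fun b c e => Subtype.ext (congrArg Subtype.val e :)), ?_⟩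
  intro ν hν
  obtain ⟨a', b', h'⟩ := mem_torParam.1 hν
  rw [hM₂, mem_map_conj] at h'
  have hfix : (u⁻¹ * (uniEl hS a' b' * torSz hS ν) * u) • ovoidInf (F := F) (m := m) = ovoidInf := by
    have hu : u • ovoidInf (F := F) (m := m) = ovoidInf := Subtype.ext (uniEl_smul_infinity hS c d)
    rw [mul_smul, mul_smul, hu, borel_fix, inv_smul_eq_iff, hu]
  obtain ⟨a'', b'', ν', e⟩ := stab_inf_eq hS hfix
  have hνν' : ν = ν' := by
    have e2 : uniEl hS a' b' * torSz hS ν * u = u * (uniEl hS a'' b'' * torSz hS ν') := by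
      rw [← e]; group
    have e3 : uniEl hS a' b' * torSz hS ν * (u * torSz hS 1) =
        u * torSz hS 1 * (uniEl hS a'' b'' * torSz hS ν') := by
      rw [map_one, mul_one]; exact e2
    rw [borel_mul, borel_mul] at e3
    have := (borel_inj hS e3).2.2
    rwa [mul_one, one_mul] at this
  have hmem : ν ∈ torParam hS M₁ := by
    rw [hνν']; exact ⟨a'', b'', e ▸ h'⟩
  obtain ⟨i, hi⟩ := Subgroup.mem_zpowers_iff.1 (hgen ⟨ν, hmem⟩)
  have hi' : μ ^ i = ν := congrArg Subtype.val hi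
  rw [← hi', map_zpow, ← hconj]
  exact Subgroup.zpow_mem _ (show u * (uniEl hS a b * torSz hS μ) * u⁻¹ ∈ M₂ from ⟨_, hab, rfl⟩) i

/-- A torus normalizer, as a normalizer of a torus. -/
theorem map_le_stab {g : Cfsg.Sz F m} {x : Idx A}
    (h : M.map (MulAut.conj g).toMonoidHom ≤ stabilizer (Cfsg.Sz F m) x.2) :
    M ≤ stabilizer (Cfsg.Sz F m) (g⁻¹ • x).2 := by
  intro y hy
  have h2 : (g * y * g⁻¹) • x.2 = x.2 := h ⟨y, hy, rfl⟩
  have := conj_mem_stabilizer (k := g⁻¹) h2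
  rwa [show g⁻¹ * (g * y * g⁻¹) * g⁻¹⁻¹ = y by group] at this

/-- The subgroups of `Cfsg.Sz`: fixed point, invariant torus, or conjugate to a subfield subgroup. -/
theorem subgroup_cases (hA : Tori hS A) (M : Subgroup (Cfsg.Sz F m)) :
    (∃ p : Cfsg.suzukiOvoid F m, M ≤ stabilizer (Cfsg.Sz F m) p) ∨
      (∃ x : Idx A, M ≤ stabilizer (Cfsg.Sz F m) x.2) ∨
      ∃ (k : ℕ) (g : Cfsg.Sz F m), 1 ≤ k ∧ 2 * k + 1 ∣ 2 * m + 1 ∧
        M.map (MulAut.conj g).toMonoidHom = fldSub hS (2 ^ (2 * k + 1)) := by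
  classical
  by_cases hfix : ∃ p : Cfsg.suzukiOvoid F m, M ≤ stabilizer (Cfsg.Sz F m) p
  · exact Or.inl hfix
  right
  have hM : NoFix M := by
    intro p
    by_contra! h
    exact hfix ⟨p, fun g hg => h g hg⟩
  by_cases hinv : ∀ u ∈ M, orderOf u ≠ 2
  · refine Or.inl (odd_case hA ?_ hinv)
    intro e
    obtain ⟨g, hg, hne⟩ := hM ovoidInf
    rw [e, Subgroup.mem_bot] at hg
    exact hne (by rw [hg, one_smul])
  push Not at hinv
  obtain ⟨u, hu, hu2⟩ := hinv
  obtain ⟨hu1, hu4⟩ := ne_one_and_pow_four (Or.inl hu2)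
  obtain ⟨p, hp, -⟩ := existsUnique_fixed hS hu1 hu4
  obtain ⟨g₀, hg₀⟩ := (sz_pretransitive hS).exists_smul_eq p ovoidInf
  set M₀ := M.map (MulAut.conj g₀).toMonoidHom with hM₀
  obtain ⟨b₀, hb₀⟩ := mem_uniCenter_of_sq hS
    (mem_uniSub_of_pow_four hS (hg₀ ▸ conj_mem_stabilizer (k := g₀) hp)
      (by rw [conj_pow, hu4, mul_one, mul_inv_cancel]))
    (by
      rw [show g₀ * u * g₀⁻¹ * (g₀ * u * g₀⁻¹) = g₀ * (u * u) * g₀⁻¹ by group, ← pow_two u, ← hu2,
        pow_orderOf_eq_one, mul_one, mul_inv_cancel])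
  have hb0 : b₀ ≠ 0 := fun e => by
    rw [e, uniEl_zero, mul_inv_eq_one, mul_eq_left] at hb₀
    exact hu1 hb₀
  have hbmem : b₀ ∈ centParam hS M₀ := by
    rw [mem_centParam, ← hb₀]
    exact ⟨u, hu, rfl⟩
  rcases lt_or_ge (Nat.card (centParam hS M₀)) 4 with h4 | h4
  · left
    obtain ⟨x, hx⟩ := small hA (hM.map g₀) hb0 hbmem h4
    exact ⟨_, map_le_stab hx⟩
  · right
    obtain ⟨g, h1, h4', hT⟩ := exists_standard (hM.map g₀) hb0 hbmem h4
    obtain ⟨k, hk, hdiv, e⟩ := standard hA ((hM.map g₀).map g) h1 h4' hT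
    refine ⟨k, g * g₀, hk, hdiv, ?_⟩
    rw [← e, map_conj_conj]

end CfsgLib.SuzukiSub
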