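import Cfsg.Agent.SuzukiSub.Subfield

/-!
# The standard subfield subgroup `fldSub`
-/

set_option autoImplicit false
set_option linter.unusedSectionVars false

namespace CfsgLib.SuzukiSub

open CfsgLib.Suzuki

variable {F : Type*} [Field F] [Fintype F] {m : ℕ}

/-- The subgroup generated by the root and torus elements over `{x | x ^ z = x}`, and `weylEl`. -/
def fldSub (hS : SzField F m) (z : ℕ) : Subgroup (Cfsg.Sz F m) :=
  Subgroup.closure {g | (∃ a b : F, a ^ z = a ∧ b ^ z = b ∧ g = uniEl hS a b) ∨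
    (∃ μ : Fˣ, (μ : F) ^ z = μ ∧ g = torSz hS μ) ∨ g = weylEl hS}

theorem uniEl_mem_fldSub (hS : SzField F m) {z : ℕ} {a b : F} (ha : a ^ z = a) (hb : b ^ z = b) :
    uniEl hS a b ∈ fldSub hS z := Subgroup.subset_closure (Or.inl ⟨a, b, ha, hb, rfl⟩)

theorem torSz_mem_fldSub (hS : SzField F m) {z : ℕ} {μ : Fˣ} (hμ : (μ : F) ^ z = μ) :
    torSz hS μ ∈ fldSub hS z := Subgroup.subset_closure (Or.inr (Or.inl ⟨μ, hμ, rfl⟩))

theorem weylEl_mem_fldSub (hS : SzField F m) (z : ℕ) : weylEl hS ∈ fldSub hS z :=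
  Subgroup.subset_closure (Or.inr (Or.inr rfl))

variable {K : Type*} [Field K] [Fintype K] {k : ℕ}

/-- The image of a subfield embedding is `fldSub`. -/
theorem range_szHom (hS : SzField F m) (hK : SzField K k) (ι : K →+* F) :
    (szHom hS hK ι).range = fldSub hS (2 ^ (2 * k + 1)) := by
  have hmem : ∀ x : F, x ^ (2 ^ (2 * k + 1)) = x ↔ x ∈ ι.range := fun x => by
    rw [mem_range_iff, hK.card_eq]
  refine le_antisymm ?_ ?_
  · rintro _ ⟨g, rfl⟩
    have hu : ∀ a b, szHom hS hK ι (uniEl hK a b) ∈ fldSub hS (2 ^ (2 * k + 1)) := fun a b => by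
      rw [szHom_uniEl]
      exact uniEl_mem_fldSub hS ((hmem _).2 ⟨a, rfl⟩) ((hmem _).2 ⟨b, rfl⟩)
    have ht : ∀ μ, szHom hS hK ι (torSz hK μ) ∈ fldSub hS (2 ^ (2 * k + 1)) := fun μ => by
      rw [szHom_torSz]
      exact torSz_mem_fldSub hS ((hmem _).2 ⟨(μ : K), rfl⟩)
    have hw : szHom hS hK ι (weylEl hK) ∈ fldSub hS (2 ^ (2 * k + 1)) := by
      rw [szHom_weylEl]; exact weylEl_mem_fldSub hS _
    rcases bruhat hK g with ⟨a, b, μ, rfl⟩ | ⟨x, y, a, b, μ, rfl⟩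
    · rw [map_mul]; exact mul_mem (hu a b) (ht μ)
    · simp only [map_mul]
      exact mul_mem (mul_mem (hu x y) hw) (mul_mem (hu a b) (ht μ))
  · rw [fldSub, Subgroup.closure_le]
    rintro g (⟨a, b, ha, hb, rfl⟩ | ⟨μ, hμ, rfl⟩ | rfl)
    · obtain ⟨a', rfl⟩ := (hmem a).1 ha
      obtain ⟨b', rfl⟩ := (hmem b).1 hb
      exact ⟨uniEl hK a' b', szHom_uniEl hS hK ι a' b'⟩
    · obtain ⟨μ', e⟩ := (hmem (μ : F)).1 hμ
      have h0 : μ' ≠ 0 := fun h => μ.ne_zero (by rw [← e, h, map_zero])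
      refine ⟨torSz hK (Units.mk0 μ' h0), ?_⟩
      rw [szHom_torSz]
      congr 1
      exact Units.ext e
    · exact ⟨weylEl hK, szHom_weylEl hS hK ι⟩

theorem card_fldSub (hS : SzField F m) (hk : 1 ≤ k) (hdiv : 2 * k + 1 ∣ 2 * m + 1) :
    Nat.card (fldSub (F := F) hS (2 ^ (2 * k + 1))) =
      (2 ^ (2 * k + 1)) ^ 2 * ((2 ^ (2 * k + 1)) ^ 2 + 1) * (2 ^ (2 * k + 1) - 1) := by
  classical
  have : Fact (Nat.Prime 2) := ⟨Nat.prime_two⟩
  let := Fintype.ofFinite (GaloisField 2 (2 * k + 1))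
  have hK : SzField (GaloisField 2 (2 * k + 1)) k :=
    ⟨hk, by rw [← Nat.card_eq_fintype_card]; exact GaloisField.card 2 _ (by omega)⟩
  obtain ⟨ι⟩ := exists_ringHom hS hK hdiv
  rw [← range_szHom hS hK ι, ← Nat.card_congr (MonoidHom.ofInjective (szHom_injective hS hK ι)).toEquiv,
    card_sz hK, hK.card_eq]

theorem fldSub_self (hS : SzField F m) : fldSub (F := F) hS (2 ^ (2 * m + 1)) = ⊤ := by
  rw [eq_top_iff]
  intro g _
  have h : ∀ x : F, x ^ (2 ^ (2 * m + 1)) = x := fun x => by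
    rw [← hS.card_eq]; exact FiniteField.pow_card x
  rcases bruhat hS g with ⟨a, b, μ, rfl⟩ | ⟨x, y, a, b, μ, rfl⟩
  · exact mul_mem (uniEl_mem_fldSub hS (h a) (h b)) (torSz_mem_fldSub hS (h _))
  · exact mul_mem (mul_mem (uniEl_mem_fldSub hS (h x) (h y)) (weylEl_mem_fldSub hS _))
      (mul_mem (uniEl_mem_fldSub hS (h a) (h b)) (torSz_mem_fldSub hS (h _)))

end CfsgLib.SuzukiSub
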