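import Cfsg.Agent.SuzukiLocal.Basic

/-!
# Subfield subgroups of `Cfsg.Sz`

A field embedding `ι : K →+* F` gives an embedding `szHom` of `Cfsg.Sz K k` into `Cfsg.Sz F m`.
`subSz` is a chosen image, for each `k` with `2k+1 ∣ 2m+1`.
-/

set_option autoImplicit false
set_option linter.unusedSectionVars false

namespace CfsgLib.SuzukiSub

open CfsgLib.Suzuki

local notation "SL4" F:max => Matrix.SpecialLinearGroup (Fin 4) F

variable {F : Type*} [Field F] [Fintype F] {m : ℕ} {K : Type*} [Field K] [Fintype K] {k : ℕ}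

theorem exists_eq_mul_add (hS : SzField F m) (hK : SzField K k) (ι : K →+* F) :
    ∃ j, m = (2 * k + 1) * j + k := by
  let := ι.toAlgebra
  have h := Module.card_eq_pow_finrank (K := K) (V := F)
  rw [hS.card_eq, hK.card_eq, ← pow_mul] at h
  have h' := Nat.pow_right_injective le_rfl h
  set d := Module.finrank K F
  rcases Nat.even_or_odd d with ⟨j, hj⟩ | ⟨j, hj⟩
  · exfalso
    rw [hj, ← two_mul, ← mul_assoc, mul_comm (2 * k + 1) 2, mul_assoc] at h'
    omega
  · refine ⟨j, ?_⟩
    rw [hj] at h'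
    nlinarith

theorem pow_two_pow_add (hK : SzField K k) (x : K) (a j : ℕ) :
    x ^ 2 ^ (a + (2 * k + 1) * j) = x ^ 2 ^ a := by
  induction j with
  | zero => simp
  | succ j ih =>
    rw [mul_add, mul_one, ← add_assoc, pow_add, pow_mul, ih, ← hK.card_eq, FiniteField.pow_card]

theorem map_pow_two_pow (hS : SzField F m) (hK : SzField K k) (ι : K →+* F) (x : K) :
    ι x ^ 2 ^ m = ι (x ^ 2 ^ k) ∧ θ m (ι x) = ι (θ k x) := by
  obtain ⟨j, hj⟩ := exists_eq_mul_add hS hK ι
  refine ⟨?_, ?_⟩
  · rw [← map_pow, hj, add_comm, pow_two_pow_add hK]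
  · show ι x ^ _ = ι (x ^ _)
    rw [← map_pow, hj, show (2 * k + 1) * j + k + 1 = (k + 1) + (2 * k + 1) * j by ring,
      pow_two_pow_add hK]

theorem map_uni (hS : SzField F m) (hK : SzField K k) (ι : K →+* F) (a b : K) :
    Matrix.SpecialLinearGroup.map ι (uni k a b) = uni m (ι a) (ι b) := by
  have h := fun x => (map_pow_two_pow hS hK ι x).2
  apply Subtype.ext
  ext i j
  show ι (uniMat k a b i j) = uniMat m (ι a) (ι b) i j
  fin_cases i <;> fin_cases j <;> simp [uniMat, szF, h]

theorem map_tor (hS : SzField F m) (hK : SzField K k) (ι : K →+* F) (μ : Kˣ) :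
    Matrix.SpecialLinearGroup.map ι (tor k μ) = tor m (Units.map ι.toMonoidHom μ) := by
  have h := fun x => (map_pow_two_pow hS hK ι x).1
  apply Subtype.ext
  ext i j
  show ι (torMat k μ i j) = torMat m (Units.map ι.toMonoidHom μ) i j
  fin_cases i <;> fin_cases j <;> simp [torMat, pow_succ, h]

theorem map_weyl (ι : K →+* F) :
    Matrix.SpecialLinearGroup.map ι (weyl : SL4 K) = weyl := by
  apply Subtype.ext
  ext i j
  show ι (weylMat i j) = weylMat i j
  fin_cases i <;> fin_cases j <;> simp [weylMat]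

theorem map_mem (hS : SzField F m) (hK : SzField K k) (ι : K →+* F) (g : Cfsg.Sz K k) :
    Matrix.SpecialLinearGroup.map ι (g : SL4 K) ∈ Cfsg.Sz F m := by
  have hu : ∀ a b, Matrix.SpecialLinearGroup.map ι (uniEl hK a b : SL4 K) ∈ Cfsg.Sz F m :=
    fun a b => by rw [uniEl_val, map_uni hS hK]; exact uni_mem hS _ _
  have ht : ∀ μ, Matrix.SpecialLinearGroup.map ι (torSz hK μ : SL4 K) ∈ Cfsg.Sz F m :=
    fun μ => by rw [torSz_val, map_tor hS hK]; exact tor_mem hS _
  have hw : Matrix.SpecialLinearGroup.map ι (weylEl hK : SL4 K) ∈ Cfsg.Sz F m := by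
    show Matrix.SpecialLinearGroup.map ι (weyl : SL4 K) ∈ _
    rw [map_weyl]; exact weyl_mem hS
  rcases bruhat hK g with ⟨a, b, μ, rfl⟩ | ⟨x, y, a, b, μ, rfl⟩
  · rw [Subgroup.coe_mul, map_mul]; exact mul_mem (hu a b) (ht μ)
  · simp only [Subgroup.coe_mul, map_mul]
    exact mul_mem (mul_mem (hu x y) hw) (mul_mem (hu a b) (ht μ))

/-- The embedding of a subfield Suzuki group. -/
def szHom (hS : SzField F m) (hK : SzField K k) (ι : K →+* F) : Cfsg.Sz K k →* Cfsg.Sz F m :=
  ((Matrix.SpecialLinearGroup.map ι).comp (Cfsg.Sz K k).subtype).codRestrict _ (map_mem hS hK ι)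

theorem szHom_injective (hS : SzField F m) (hK : SzField K k) (ι : K →+* F) :
    Function.Injective (szHom hS hK ι) := by
  intro g h e
  have e' : Matrix.SpecialLinearGroup.map ι (g : SL4 K) = Matrix.SpecialLinearGroup.map ι (h : SL4 K) :=
    congrArg Subtype.val e
  apply Subtype.ext
  ext i j
  exact ι.injective (congrArg (fun M : SL4 F => (M : Matrix (Fin 4) (Fin 4) F) i j) e')

theorem szHom_uniEl (hS : SzField F m) (hK : SzField K k) (ι : K →+* F) (a b : K) :
    szHom hS hK ι (uniEl hK a b) = uniEl hS (ι a) (ι b) := Subtype.ext (map_uni hS hK ι a b)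

theorem szHom_torSz (hS : SzField F m) (hK : SzField K k) (ι : K →+* F) (μ : Kˣ) :
    szHom hS hK ι (torSz hK μ) = torSz hS (Units.map ι.toMonoidHom μ) :=
  Subtype.ext (map_tor hS hK ι μ)

theorem szHom_weylEl (hS : SzField F m) (hK : SzField K k) (ι : K →+* F) :
    szHom hS hK ι (weylEl hK) = weylEl hS := Subtype.ext (map_weyl ι)

/-- The image of a field embedding is the set of fixed points of a Frobenius power. -/
theorem mem_range_iff (ι : K →+* F) (x : F) :
    x ∈ ι.range ↔ x ^ Fintype.card K = x := by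
  classical
  constructor
  · rintro ⟨a, rfl⟩
    rw [← map_pow, FiniteField.pow_card]
  · intro hx
    have h1 := Fintype.one_lt_card (α := K)
    have hsub : (Finset.univ.image ι).val ⊆ (Polynomial.X ^ Fintype.card K - Polynomial.X :
        Polynomial F).roots := by
      intro y hy
      obtain ⟨a, -, rfl⟩ := Finset.mem_image.1 hy
      rw [Polynomial.mem_roots (FiniteField.X_pow_card_sub_X_ne_zero F h1)]
      simp [← map_pow, FiniteField.pow_card]
    have hmem : x ∈ (Polynomial.X ^ Fintype.card K - Polynomial.X : Polynomial F).roots := by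
      rw [Polynomial.mem_roots (FiniteField.X_pow_card_sub_X_ne_zero F h1)]
      simp [hx]
    have heq : (Finset.univ.image ι) =
        (Polynomial.X ^ Fintype.card K - Polynomial.X : Polynomial F).roots.toFinset := by
      refine Finset.eq_of_subset_of_card_le (fun y hy => Multiset.mem_toFinset.2 (hsub hy)) ?_
      rw [Finset.card_image_of_injective _ ι.injective, Finset.card_univ]
      exact (Multiset.toFinset_card_le _).trans ((Polynomial.card_roots' _).trans
        (FiniteField.X_pow_card_sub_X_natDegree_eq F h1).le)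
    obtain ⟨a, -, ha⟩ := Finset.mem_image.1 (heq ▸ Multiset.mem_toFinset.2 hmem)
    exact ⟨a, ha⟩

theorem exists_ringHom (hS : SzField F m) (hK : SzField K k) (hdiv : 2 * k + 1 ∣ 2 * m + 1) :
    Nonempty (K →+* F) := by
  have : Fact (Nat.Prime 2) := ⟨Nat.prime_two⟩
  have := hS.charP
  have := hK.charP
  let : Algebra (ZMod 2) K := ZMod.algebra K 2
  let : Algebra (ZMod 2) F := ZMod.algebra F 2
  have e : ∀ n d, 2 ^ n = 2 ^ d → n = d := fun n d h => Nat.pow_right_injective le_rfl h
  have hk : Module.finrank (ZMod 2) K = 2 * k + 1 :=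
    e _ _ ((FiniteField.pow_finrank_eq_card 2 K).trans hK.card_eq)
  have hm : Module.finrank (ZMod 2) F = 2 * m + 1 :=
    e _ _ ((FiniteField.pow_finrank_eq_card 2 F).trans hS.card_eq)
  obtain ⟨f⟩ := FiniteField.nonempty_algHom_of_finrank_dvd (F := ZMod 2) (K := K) (L := F)
    (by rw [hk, hm]; exact hdiv)
  exact ⟨f.toRingHom⟩

end CfsgLib.SuzukiSub
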