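import Mathlib

/-!
# Arithmetic behind the subgroup classification of `Cfsg.Sz`
-/

set_option autoImplicit false

namespace CfsgLib.SuzukiSub

/-- A class with contribution `(a - 1) / (e * a)`. -/
structure IsClass {ι : Type*} (R : Finset ι) (e a : ι → ℕ) : Prop where
  five : ∀ r ∈ R, 5 ≤ a r
  cases : ∀ r ∈ R, e r = 1 ∨ e r = 2 ∨ e r = 4

/-- The contribution of a class. -/
def wgt (e a : ℕ) : ℚ := ((a : ℚ) - 1) / (e * a)

theorem wgt_bounds {e a : ℕ} (ha : 5 ≤ a) (he : 0 < e) :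
    4 / (5 * (e : ℚ)) ≤ wgt e a ∧ wgt e a < 1 / e := by
  have hA : (5 : ℚ) ≤ a := by exact_mod_cast ha
  have hE : (0 : ℚ) < e := by exact_mod_cast he
  unfold wgt
  constructor
  · rw [div_le_div_iff₀ (by positivity) (by positivity)]
    nlinarith
  · rw [div_lt_div_iff₀ (by positivity) hE]
    nlinarith

variable {ι : Type*} {R : Finset ι} {e a : ι → ℕ}

theorem IsClass.pos (h : IsClass R e a) {r : ι} (hr : r ∈ R) : 0 < e r := by
  rcases h.cases r hr with h | h | h <;> omega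

theorem IsClass.wgt_ge (h : IsClass R e a) {r : ι} (hr : r ∈ R) :
    1 / 5 ≤ wgt (e r) (a r) ∧ wgt (e r) (a r) ≤ ∑ x ∈ R, wgt (e x) (a x) := by
  have hb := fun x (hx : x ∈ R) => (wgt_bounds (h.five x hx) (h.pos hx)).1
  have hpos : ∀ x ∈ R, 1 / 5 ≤ wgt (e x) (a x) := by
    intro x hx
    refine le_trans ?_ (hb x hx)
    rcases h.cases x hx with e' | e' | e' <;> rw [e'] <;> norm_num
  exact ⟨hpos r hr, Finset.single_le_sum (fun x hx => le_trans (by norm_num) (hpos x hx)) hr⟩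

theorem IsClass.e_eq (h : IsClass R e a) {r : ι} (hr : r ∈ R) :
    (∑ x ∈ R, wgt (e x) (a x) < 4 / 5 → e r ≠ 1) ∧
    (∑ x ∈ R, wgt (e x) (a x) < 2 / 5 → e r = 4) := by
  have hb := (wgt_bounds (h.five r hr) (h.pos hr)).1
  have hle := (h.wgt_ge hr).2
  rcases h.cases r hr with e' | e' | e' <;> rw [e'] at hb hle <;> constructor <;> intro hh <;>
    first
      | omega
      | (norm_num at hb; linarith)

theorem IsClass.card_mul_le (h : IsClass R e a) (c : ℕ) (hc : ∀ r ∈ R, e r ≤ c) :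
    (R.card : ℚ) * (4 / (5 * c)) ≤ ∑ x ∈ R, wgt (e x) (a x) := by
  have := Finset.card_nsmul_le_sum R (fun x => wgt (e x) (a x)) (4 / (5 * (c : ℚ))) fun r hr => by
    refine le_trans ?_ (wgt_bounds (h.five r hr) (h.pos hr)).1
    have hE : (0 : ℚ) < e r := by exact_mod_cast h.pos hr
    have : (e r : ℚ) ≤ c := by exact_mod_cast hc r hr
    gcongr
  rwa [nsmul_eq_mul] at this

theorem IsClass.eq_singleton (h : IsClass R e a) (hpos : 0 < ∑ x ∈ R, wgt (e x) (a x)) (c : ℕ)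
    (hc0 : 0 < c) (hc : ∀ r ∈ R, e r ≤ c)
    (hlt : ∑ x ∈ R, wgt (e x) (a x) < 8 / (5 * c)) : ∃ r, R = {r} := by
  have hR : R.Nonempty := by
    by_contra hne
    rw [Finset.not_nonempty_iff_eq_empty] at hne
    simp [hne] at hpos
  have h1 := h.card_mul_le c hc
  have hC : (0 : ℚ) < c := by exact_mod_cast hc0
  have h2 : (R.card : ℚ) < 2 := by
    by_contra hn
    push Not at hn
    have : 2 * (4 / (5 * (c : ℚ))) ≤ (R.card : ℚ) * (4 / (5 * c)) :=
      mul_le_mul_of_nonneg_right hn (by positivity)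
    have : 8 / (5 * (c : ℚ)) ≤ (R.card : ℚ) * (4 / (5 * c)) := by
      refine le_trans (le_of_eq ?_) this; ring
    linarith
  have := hR.card_pos
  have h3 : R.card < 2 := by exact_mod_cast h2
  exact Finset.card_eq_one.1 (by omega)

theorem wgt_odd {a g : ℕ} (ha : 0 < a) (hg : 0 < g)
    (h : wgt 1 a = 1 - 1 / (g : ℚ)) : a = g := by
  have h1 : (a : ℚ) ≠ 0 := by exact_mod_cast ha.ne'
  have h2 : (g : ℚ) ≠ 0 := by exact_mod_cast hg.ne'
  unfold wgt at h
  field_simp at h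
  push_cast at h
  have : (a : ℚ) = g := by linarith
  exact_mod_cast this

theorem small_case {ι : Type*} {R : Finset ι} {e a : ι → ℕ} (h : IsClass R e a) {s n : ℕ}
    (hs : s = 2 ∨ s = 4) (hn : 2 ≤ n) (hfour : s = 2 → ∀ r ∈ R, e r ≠ 4)
    (heq : ∑ x ∈ R, wgt (e x) (a x) = 1 / (s : ℚ) - 1 / (s * n)) :
    ∃ r ∈ R, e r * a r = s * n := by
  have hN : (2 : ℚ) ≤ n := by exact_mod_cast hn
  have hS : (0 : ℚ) < s := by rcases hs with rfl | rfl <;> norm_num
  have hlt : 1 / (s : ℚ) - 1 / (s * n) < 1 / s := by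
    have : 0 < 1 / ((s : ℚ) * n) := by positivity
    linarith
  have hp : 0 < 1 / (s : ℚ) - 1 / (s * n) := by
    rw [sub_pos, div_lt_div_iff₀ (by positivity) hS]
    nlinarith
  have hsum : ∑ x ∈ R, wgt (e x) (a x) < 1 / (s : ℚ) := by rw [heq]; exact hlt
  have hc : ∀ r ∈ R, e r = s := by
    intro r hr
    obtain ⟨h1, h2⟩ := h.e_eq hr
    rcases hs with rfl | rfl
    · have := h1 (lt_of_lt_of_le hsum (by norm_num))
      have := hfour rfl r hr
      rcases h.cases r hr with e' | e' | e' <;> omega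
    · exact h2 (lt_of_lt_of_le hsum (by norm_num))
  obtain ⟨r, rfl⟩ := h.eq_singleton (heq ▸ hp) s (by omega) (fun r hr => (hc r hr).le) (by
    rw [heq]
    refine lt_trans hlt ?_
    rw [div_lt_div_iff₀ hS (by positivity)]
    nlinarith)
  refine ⟨r, Finset.mem_singleton_self r, ?_⟩
  have hr := hc r (Finset.mem_singleton_self r)
  have ha := h.five r (Finset.mem_singleton_self r)
  rw [Finset.sum_singleton, hr] at heq
  unfold wgt at heq
  have hA : (a r : ℚ) ≠ 0 := by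
    have : 0 < a r := by omega
    exact_mod_cast this.ne'
  field_simp at heq
  have : (a r : ℚ) = n := by linarith
  rw [hr, show a r = n by exact_mod_cast this]

theorem two_classes_arith {a b z w u : ℕ} (hz : z = 4 * w) (hz8 : 8 ≤ z) (hu : 2 ≤ u)
    (ha5 : 5 ≤ a) (hb5 : 5 ≤ b) (haodd : ¬ 2 ∣ a) (hab : a ≤ b)
    (heq : ((a : ℤ) + b) * ((z : ℤ) - 1) * (u * z ^ 2 + 1) =
      2 * a * b * (u * ((z : ℤ) ^ 2 - 2) + 1)) : False := by
  have hA : (5 : ℤ) ≤ a := by exact_mod_cast ha5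
  have hB : (5 : ℤ) ≤ b := by exact_mod_cast hb5
  have hZ : (8 : ℤ) ≤ z := by exact_mod_cast hz8
  have hU : (2 : ℤ) ≤ u := by exact_mod_cast hu
  have hAB : (a : ℤ) ≤ b := by exact_mod_cast hab
  have hz2 : (64 : ℤ) ≤ (z : ℤ) ^ 2 := by nlinarith
  have hC : (0 : ℤ) < u * ((z : ℤ) ^ 2 - 2) + 1 := by
    have := mul_nonneg (show (0 : ℤ) ≤ u by linarith) (show (0 : ℤ) ≤ (z : ℤ) ^ 2 - 2 by linarith)
    linarith
  have hX : (0 : ℤ) < u * (z : ℤ) ^ 2 + 1 := by positivity
  -- the defect from the value at `u = 1`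
  have hD : 2 * ((u : ℤ) - 1) * (a + b) =
      (2 * ((z : ℤ) + 1) * a * b - ((z : ℤ) ^ 2 + 1) * (a + b)) * (u * ((z : ℤ) ^ 2 - 2) + 1) := by
    linear_combination ((z : ℤ) + 1) * heq
  set D := 2 * ((z : ℤ) + 1) * a * b - ((z : ℤ) ^ 2 + 1) * (a + b) with hDdef
  have hDpos : 1 ≤ D := by
    by_contra hn
    push Not at hn
    have h0 : (0 : ℤ) < 2 * ((u : ℤ) - 1) * (a + b) := by nlinarith
    nlinarith
  have hsum : (z : ℤ) ^ 2 - 2 < 2 * (a + b) := by
    by_contra hn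
    push Not at hn
    nlinarith
  have haz : (a : ℤ) ≤ z := by
    by_contra hn
    push Not at hn
    have : ((a : ℤ) + b) * ((z : ℤ) - 1) * (u * z ^ 2 + 1) ≤
        2 * b * (((z : ℤ) - 1) * (u * z ^ 2 + 1)) := by
      have := mul_le_mul_of_nonneg_right (show (a : ℤ) + b ≤ 2 * b by linarith)
        (show (0 : ℤ) ≤ ((z : ℤ) - 1) * (u * z ^ 2 + 1) by nlinarith)
      linarith
    have : 2 * (b : ℤ) * (((z : ℤ) - 1) * (u * z ^ 2 + 1)) <
        2 * a * b * (u * ((z : ℤ) ^ 2 - 2) + 1) := by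
      have : ((z : ℤ) - 1) * (u * z ^ 2 + 1) < a * (u * ((z : ℤ) ^ 2 - 2) + 1) := by
        have h1 := mul_le_mul_of_nonneg_right (show (z : ℤ) + 1 ≤ a by omega) hC.le
        have h2 := mul_le_mul_of_nonneg_left
          (show (1 : ℤ) ≤ (z : ℤ) ^ 2 - z - 1 by nlinarith) (show (0 : ℤ) ≤ u by linarith)
        nlinarith
      nlinarith
    linarith
  have haw : 2 * w + 1 ≤ a := by
    have h1 : ((z : ℤ) ^ 2 + 1) < 2 * ((z : ℤ) + 1) * a := by
      by_contra hn
      push Not at hn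
      nlinarith
    have h2 : (z : ℤ) = 4 * w := by exact_mod_cast hz
    rw [h2] at h1
    have h3 : (2 * (w : ℤ)) ≤ a := by
      by_contra hn
      push Not at hn
      have : (a : ℤ) ≤ 2 * w - 1 := by omega
      nlinarith
    omega
  have ha2 : (z : ℤ) + 2 ≤ 2 * a := by
    have : z + 2 ≤ 2 * a := by omega
    exact_mod_cast this
  have hb_le : (b : ℤ) * (u * (3 * (z : ℤ) ^ 2 - 2 * z - 4) + 3) ≤
      z * ((z : ℤ) - 1) * (u * z ^ 2 + 1) := by
    have h1 : (b : ℤ) * (2 * a * (u * ((z : ℤ) ^ 2 - 2) + 1) - ((z : ℤ) - 1) * (u * z ^ 2 + 1)) =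
        a * ((z : ℤ) - 1) * (u * z ^ 2 + 1) := by linear_combination -heq
    have h2 : u * (3 * (z : ℤ) ^ 2 - 2 * z - 4) + 3 ≤
        2 * a * (u * ((z : ℤ) ^ 2 - 2) + 1) - ((z : ℤ) - 1) * (u * z ^ 2 + 1) := by nlinarith
    have h3 := mul_le_mul_of_nonneg_left h2 (show (0 : ℤ) ≤ b by positivity)
    have h4 : (a : ℤ) * ((z : ℤ) - 1) * (u * z ^ 2 + 1) ≤ z * ((z : ℤ) - 1) * (u * z ^ 2 + 1) := by
      have h0 : (0 : ℤ) ≤ ((z : ℤ) - 1) * (u * z ^ 2 + 1) := by nlinarith
      have := mul_le_mul_of_nonneg_right haz h0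
      linarith
    linarith
  have hb_ge : (z : ℤ) ^ 2 - 2 * z - 2 ≤ 2 * b := by linarith
  have hY : (0 : ℤ) ≤ u * (3 * (z : ℤ) ^ 2 - 2 * z - 4) + 3 := by nlinarith
  have h5 := mul_le_mul_of_nonneg_right hb_ge hY
  nlinarith [mul_nonneg (mul_nonneg (sub_nonneg.2 hU) (sub_nonneg.2 hZ)) (sq_nonneg ((z : ℤ) - 4))]

theorem big_case {ι : Type*} {R : Finset ι} {e a : ι → ℕ} (h : IsClass R e a) {s z u w : ℕ}
    (hz : z = 4 * w) (hz8 : 8 ≤ z) (hu : 1 ≤ u) (hs : s = z ∨ s = z ^ 2)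
    (hodd : ∀ r ∈ R, ¬ 2 ∣ a r) (hthree : ∀ r ∈ R, ¬ 3 ∣ a r) (hzmod : 3 ∣ z + 1)
    (hfour : s = z → ∀ r ∈ R, e r ≠ 4)
    (heq : ∑ x ∈ R, wgt (e x) (a x) = 1 / 2 - 1 / (2 * ((z : ℚ) - 1)) + 1 / (s * ((z : ℚ) - 1))
      - 1 / (s * ((z : ℚ) - 1) * (u * s + 1))) : u = 1 ∧ s = z ^ 2 := by
  classical
  have hs8 : 8 ≤ s := by rcases hs with rfl | rfl <;> nlinarith
  have hS : (8 : ℚ) ≤ s := by exact_mod_cast hs8
  have hZ : (8 : ℚ) ≤ z := by exact_mod_cast hz8
  have hU : (1 : ℚ) ≤ u := by exact_mod_cast hu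
  set rhs := 1 / 2 - 1 / (2 * ((z : ℚ) - 1)) + 1 / (s * ((z : ℚ) - 1))
    - 1 / (s * ((z : ℚ) - 1) * (u * s + 1)) with hrhs
  have hT : (0 : ℚ) < (z : ℚ) - 1 := by linarith
  have hnn : (0 : ℚ) < u * s + 1 := by positivity
  have hlo : 3 / 7 ≤ rhs := by
    have h1 : 1 / (2 * ((z : ℚ) - 1)) ≤ 1 / 14 := by
      rw [div_le_div_iff₀ (by positivity) (by norm_num)]; linarith
    have h2 : 1 / ((s : ℚ) * ((z : ℚ) - 1) * (u * s + 1)) ≤ 1 / (s * ((z : ℚ) - 1)) := by
      rw [div_le_div_iff₀ (by positivity) (by positivity)]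
      nlinarith [show (0 : ℚ) ≤ s * ((z : ℚ) - 1) * (u * s) by positivity]
    rw [hrhs]; linarith
  have hhi : rhs < 1 / 2 := by
    have h1 : 1 / ((s : ℚ) * ((z : ℚ) - 1)) < 1 / (2 * ((z : ℚ) - 1)) := by
      rw [div_lt_div_iff₀ (by positivity) (by positivity)]
      nlinarith
    have : 0 < 1 / ((s : ℚ) * ((z : ℚ) - 1) * (u * s + 1)) := by positivity
    rw [hrhs]; linarith
  have hle4 : ∀ r ∈ R, e r ≤ 4 := fun r hr => by rcases h.cases r hr with e' | e' | e' <;> omega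
  have hcard := h.card_mul_le 4 hle4
  have hc3 : R.card < 3 := by
    have : (R.card : ℚ) < 3 := by rw [heq] at hcard; norm_num at hcard; linarith
    exact_mod_cast this
  have hne1 : ∀ r ∈ R, e r ≠ 1 := fun r hr => (h.e_eq hr).1 (by rw [heq]; linarith)
  interval_cases hc : R.card
  · rw [Finset.card_eq_zero.1 hc, Finset.sum_empty] at heq
    linarith
  · -- a single class, of index 2
    obtain ⟨r, rfl⟩ := Finset.card_eq_one.1 hc
    have hr := Finset.mem_singleton_self r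
    rw [Finset.sum_singleton] at heq
    have he : e r = 2 := by
      rcases h.cases r hr with e' | e' | e'
      · exact absurd e' (hne1 r hr)
      · exact e'
      · have := (wgt_bounds (h.five r hr) (h.pos hr)).2
        rw [heq, e'] at this
        norm_num at this
        linarith
    have ha := h.five r hr
    have hA : (a r : ℚ) ≠ 0 := by
      have : 0 < a r := by omega
      exact_mod_cast this.ne'
    have key : (a r : ℚ) * (u * ((s : ℚ) - 2) + 1) = ((z : ℚ) - 1) * (u * s + 1) := by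
      rw [he] at heq
      unfold wgt at heq
      rw [hrhs] at heq
      push_cast at heq
      field_simp at heq
      refine mul_left_cancel₀ (show (s : ℚ) ≠ 0 by linarith) ?_
      linarith
    have keyZ : ((a r : ℤ)) * (u * ((s : ℤ) - 2) + 1) = ((z : ℤ) - 1) * (u * s + 1) := by
      exact_mod_cast key
    have hZ' : (8 : ℤ) ≤ z := by exact_mod_cast hz8
    have hU' : (1 : ℤ) ≤ u := by exact_mod_cast hu
    exfalso
    rcases hs with rfl | rfl
    · -- `a = z + 1` would be divisible by 3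
      have hlow : ((s : ℤ) + 1) ≤ a r := by
        by_contra hn
        push Not at hn
        have := mul_le_mul_of_nonneg_right (show (a r : ℤ) ≤ s by omega)
          (show (0 : ℤ) ≤ u * ((s : ℤ) - 2) + 1 by nlinarith)
        nlinarith
      have hup : (a r : ℤ) < s + 2 := by
        by_contra hn
        push Not at hn
        have := mul_le_mul_of_nonneg_right hn (show (0 : ℤ) ≤ u * ((s : ℤ) - 2) + 1 by nlinarith)
        nlinarith
      have : a r = s + 1 := by omega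
      exact hthree r hr (this ▸ hzmod)
    · push_cast at keyZ
      rcases le_or_gt (a r : ℤ) ((z : ℤ) - 1) with hn | hn
      · have := mul_le_mul_of_nonneg_right hn (show (0 : ℤ) ≤ u * ((z : ℤ) ^ 2 - 2) + 1 by nlinarith)
        nlinarith
      · have := mul_le_mul_of_nonneg_right (show (z : ℤ) ≤ a r by omega)
          (show (0 : ℤ) ≤ u * ((z : ℤ) ^ 2 - 2) + 1 by nlinarith)
        have := mul_le_mul_of_nonneg_left
          (show (48 : ℤ) ≤ (z : ℤ) ^ 2 - 2 * z by nlinarith) (show (0 : ℤ) ≤ u by linarith)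
        nlinarith
  · -- two classes, of index 4
    obtain ⟨r₁, r₂, hne, rfl⟩ := Finset.card_eq_two.1 hc
    have m1 : r₁ ∈ ({r₁, r₂} : Finset ι) := by simp
    have m2 : r₂ ∈ ({r₁, r₂} : Finset ι) := by simp
    rw [Finset.sum_pair hne] at heq
    have b1 := (wgt_bounds (h.five _ m1) (h.pos m1)).1
    have b2 := (wgt_bounds (h.five _ m2) (h.pos m2)).1
    have he : e r₁ = 4 ∧ e r₂ = 4 := by
      rcases h.cases _ m1 with e1 | e1 | e1 <;> rcases h.cases _ m2 with e2 | e2 | e2 <;>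
        first
          | exact ⟨e1, e2⟩
          | (exfalso; rw [e1] at b1; rw [e2] at b2; rw [e1, e2] at heq; norm_num at b1 b2; linarith)
    have hs2 : s = z ^ 2 := by
      rcases hs with hs | hs
      · exact absurd he.1 (hfour hs _ m1)
      · exact hs
    refine ⟨?_, hs2⟩
    rw [he.1, he.2] at heq
    have hA1 : (a r₁ : ℚ) ≠ 0 := by
      have : 0 < a r₁ := by have := h.five _ m1; omega
      exact_mod_cast this.ne'
    have hA2 : (a r₂ : ℚ) ≠ 0 := by
      have : 0 < a r₂ := by have := h.five _ m2; omega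
      exact_mod_cast this.ne'
    have key : ((a r₁ : ℚ) + a r₂) * ((z : ℚ) - 1) * (u * s + 1) =
        2 * a r₁ * a r₂ * (u * ((s : ℚ) - 2) + 1) := by
      unfold wgt at heq
      rw [hrhs] at heq
      push_cast at heq
      field_simp at heq
      refine mul_left_cancel₀ (show (s : ℚ) ≠ 0 by linarith) ?_
      linarith
    rw [hs2] at key
    push_cast at key
    have keyZ : ((a r₁ : ℤ) + a r₂) * ((z : ℤ) - 1) * (u * z ^ 2 + 1) =
        2 * a r₁ * a r₂ * (u * ((z : ℤ) ^ 2 - 2) + 1) := by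
      exact_mod_cast key
    by_contra hu1
    rcases le_total (a r₁) (a r₂) with hle | hle
    · exact two_classes_arith (u := u) (a := a r₁) (b := a r₂) hz hz8 (by omega) (h.five _ m1) (h.five _ m2) (hodd _ m1) hle keyZ
    · exact two_classes_arith (u := u) (a := a r₂) (b := a r₁) hz hz8 (by omega) (h.five _ m2) (h.five _ m1) (hodd _ m2) hle
        (by linear_combination keyZ)

end CfsgLib.SuzukiSub
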