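import Cfsg.Agent.SuzukiSub.Points

/-!
# The part of a subgroup of `Cfsg.Sz` fixing `∞`
-/

set_option autoImplicit false
set_option linter.unusedSectionVars false

namespace CfsgLib.SuzukiSub

open CfsgLib.Suzuki CfsgLib.SuzukiLocal MulAction

variable {F : Type*} [Field F] [Fintype F] {m : ℕ}

theorem borel_mul (hS : SzField F m) (a b c d : F) (μ ν : Fˣ) :
    uniEl hS a b * torSz hS μ * (uniEl hS c d * torSz hS ν) =
      uniEl hS (a + μ * c) (b + μ * θ m (μ : F) * d + θ m a * (μ * c)) * torSz hS (μ * ν) := by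
  rw [show uniEl hS a b * torSz hS μ * (uniEl hS c d * torSz hS ν) =
    uniEl hS a b * (torSz hS μ * uniEl hS c d * (torSz hS μ)⁻¹) * (torSz hS μ * torSz hS ν) by group,
    torSz_conj_uniEl, uniEl_mul, map_mul]

theorem borel_inj (hS : SzField F m) {a b c d : F} {μ ν : Fˣ}
    (h : uniEl hS a b * torSz hS μ = uniEl hS c d * torSz hS ν) : a = c ∧ b = d ∧ μ = ν :=
  uni_mul_tor_injective hS (congrArg Subtype.val h)

theorem stab_inf_eq (hS : SzField F m) {g : Cfsg.Sz F m}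
    (hg : g • ovoidInf (F := F) (m := m) = ovoidInf) :
    ∃ (a b : F) (μ : Fˣ), g = uniEl hS a b * torSz hS μ :=
  pointStab_eq hS (congrArg Subtype.val hg)

theorem borel_fix (hS : SzField F m) (a b : F) (μ : Fˣ) :
    (uniEl hS a b * torSz hS μ) • ovoidInf (F := F) (m := m) = ovoidInf := by
  rw [mul_smul, (torSz_smul_base hS μ).1]
  exact Subtype.ext (uniEl_smul_infinity hS a b)

/-- Torus components occurring in `M`. -/
def torParam (hS : SzField F m) (M : Subgroup (Cfsg.Sz F m)) : Subgroup Fˣ where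
  carrier := {μ | ∃ a b, uniEl hS a b * torSz hS μ ∈ M}
  one_mem' := ⟨0, 0, by rw [uniEl_zero, map_one, mul_one]; exact M.one_mem⟩
  mul_mem' {μ ν} := by
    rintro ⟨a, b, h⟩ ⟨c, d, h'⟩
    have := M.mul_mem h h'
    rw [borel_mul] at this
    exact ⟨_, _, this⟩
  inv_mem' {μ} := by
    rintro ⟨a, b, h⟩
    obtain ⟨c, d, ν, e⟩ := stab_inf_eq hS (g := (uniEl hS a b * torSz hS μ)⁻¹)
      (inv_smul_eq_iff.2 (borel_fix hS a b μ).symm)
    have h1 : uniEl hS a b * torSz hS μ * (uniEl hS c d * torSz hS ν) = uniEl hS 0 0 * torSz hS 1 := by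
      rw [← e, mul_inv_cancel, uniEl_zero, map_one, mul_one]
    rw [borel_mul] at h1
    refine ⟨c, d, ?_⟩
    rw [show μ⁻¹ = ν from inv_eq_of_mul_eq_one_right (borel_inj hS h1).2.2, ← e]
    exact M.inv_mem h

theorem mem_torParam {hS : SzField F m} {M : Subgroup (Cfsg.Sz F m)} {μ : Fˣ} :
    μ ∈ torParam hS M ↔ ∃ a b, uniEl hS a b * torSz hS μ ∈ M := Iff.rfl

/-- Central second coordinates occurring in `M`. -/
def centParam (hS : SzField F m) (M : Subgroup (Cfsg.Sz F m)) : AddSubgroup F where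
  carrier := {b | uniEl hS 0 b ∈ M}
  zero_mem' := by
    show uniEl hS 0 0 ∈ M
    rw [uniEl_zero]; exact M.one_mem
  add_mem' {b c} hb hc := by
    have := M.mul_mem hb hc
    rwa [uniEl_mul, show (0 : F) + 0 = 0 from add_zero 0,
      show b + c + θ m (0 : F) * 0 = b + c by ring] at this
  neg_mem' {b} hb := by
    have := hS.charP
    rw [CharTwo.neg_eq]; exact hb

theorem mem_centParam {hS : SzField F m} {M : Subgroup (Cfsg.Sz F m)} {b : F} :
    b ∈ centParam hS M ↔ uniEl hS 0 b ∈ M := Iff.rfl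

/-- First coordinates occurring in `M`. -/
def firstParam (hS : SzField F m) (M : Subgroup (Cfsg.Sz F m)) : Set F :=
  {a | ∃ b, uniEl hS a b ∈ M}

variable {hS : SzField F m} {M : Subgroup (Cfsg.Sz F m)}

theorem orderOf_uniEl_cent (hS : SzField F m) {b : F} (hb : b ≠ 0) :
    orderOf (uniEl hS 0 b) = 2 := by
  refine orderOf_eq_prime ?_ ?_
  · rw [pow_two, uniEl_sq hS, ← uniEl_zero hS, uniEl_eq_iff]
    exact ⟨rfl, by simp⟩
  · rw [← uniEl_zero hS, ne_eq, uniEl_eq_iff]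
    exact fun h => hb h.2

theorem card_inf_uniSub (hS : SzField F m) (M : Subgroup (Cfsg.Sz F m)) :
    Nat.card ↥(M ⊓ uniSub hS) = Nat.card (firstParam hS M) * Nat.card (centParam hS M) := by
  have hx : ∀ a : firstParam hS M, ∃ b, uniEl hS (a : F) b ∈ M := fun a => a.2
  choose β hβ using hx
  have key : ∀ (a : firstParam hS M) (c : F),
      uniEl hS (a : F) (β a + c) = uniEl hS 0 c * uniEl hS (a : F) (β a) := by
    intro a c
    rw [uniEl_mul, uniEl_eq_iff]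
    exact ⟨(zero_add _).symm, by rw [θ_zero]; ring⟩
  rw [← Nat.card_prod]
  symm
  refine Nat.card_eq_of_bijective (fun z => ⟨uniEl hS (z.1 : F) (β z.1 + z.2),
    key z.1 _ ▸ M.mul_mem z.2.2 (hβ z.1), uniEl_mem hS _ _⟩) ⟨?_, ?_⟩
  · rintro ⟨a, c⟩ ⟨a', c'⟩ h
    obtain ⟨h1, h2⟩ := (uniEl_eq_iff hS).1 (congrArg Subtype.val h)
    obtain rfl : a = a' := Subtype.ext h1
    exact Prod.ext rfl (Subtype.ext (add_left_cancel h2))
  · rintro ⟨g, hg, a, b, rfl⟩
    have hc : uniEl hS 0 (b - β ⟨a, b, hg⟩) ∈ M := by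
      have := key ⟨a, b, hg⟩ (b - β ⟨a, b, hg⟩)
      rw [add_sub_cancel, eq_comm, ← eq_mul_inv_iff_mul_eq] at this
      rw [this]
      exact M.mul_mem hg (M.inv_mem (hβ _))
    exact ⟨(⟨a, b, hg⟩, ⟨_, hc⟩), Subtype.ext (by simp)⟩

theorem card_inf_borel (hS : SzField F m) (M : Subgroup (Cfsg.Sz F m)) :
    Nat.card ↥(M ⊓ stabilizer (Cfsg.Sz F m) (ovoidInf (F := F) (m := m))) =
      Nat.card ↥(M ⊓ uniSub hS) * Nat.card (torParam hS M) := by
  have hx : ∀ μ : torParam hS M, ∃ g ∈ M, ∃ a b, g = uniEl hS a b * torSz hS (μ : Fˣ) := fun μ => by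
    obtain ⟨a, b, h⟩ := μ.2
    exact ⟨_, h, a, b, rfl⟩
  choose r hrM ra rb hr using hx
  rw [← Nat.card_prod]
  symm
  refine Nat.card_eq_of_bijective (fun z => ⟨(z.1 : Cfsg.Sz F m) * r z.2,
    M.mul_mem z.1.2.1 (hrM z.2), ?_⟩) ⟨?_, ?_⟩
  · obtain ⟨a, b, e⟩ := z.1.2.2
    show ((z.1 : Cfsg.Sz F m) * r z.2) • ovoidInf (F := F) (m := m) = ovoidInf
    rw [mul_smul, hr z.2, borel_fix, e]
    exact Subtype.ext (uniEl_smul_infinity hS a b)
  · rintro ⟨⟨g, hg, a, b, rfl⟩, μ⟩ ⟨⟨g', hg', a', b', rfl⟩, μ'⟩ h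
    have h' : uniEl hS a b * r μ = uniEl hS a' b' * r μ' := congrArg Subtype.val h
    have h'' := h'
    rw [hr μ, hr μ', ← mul_assoc, ← mul_assoc, uniEl_mul, uniEl_mul] at h''
    obtain rfl : μ = μ' := Subtype.ext (borel_inj hS h'').2.2
    exact Prod.ext (Subtype.ext (mul_right_cancel h')) rfl
  · rintro ⟨g, hg, hfix⟩
    obtain ⟨a, b, μ, e⟩ := stab_inf_eq hS (mem_stabilizer_iff.1 hfix)
    set μ' : torParam hS M := ⟨μ, a, b, e ▸ hg⟩
    refine ⟨(⟨g * (r μ')⁻¹, M.mul_mem hg (M.inv_mem (hrM _)), ?_⟩, μ'), Subtype.ext (by simp)⟩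
    rw [e, hr μ', mul_inv_rev, show uniEl hS a b * torSz hS μ *
      ((torSz hS (μ' : Fˣ))⁻¹ * (uniEl hS (ra μ') (rb μ'))⁻¹) =
      uniEl hS a b * (uniEl hS (ra μ') (rb μ'))⁻¹ by simp [μ', mul_assoc]]
    exact (uniSub hS).mul_mem (uniEl_mem hS _ _) ((uniSub hS).inv_mem (uniEl_mem hS _ _))

theorem conj_cent (hS : SzField F m) {μ : Fˣ} (hμ : μ ∈ torParam hS M) {b : F}
    (hb : b ∈ centParam hS M) : (μ : F) * θ m (μ : F) * b ∈ centParam hS M := by
  obtain ⟨c, d, h⟩ := hμ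
  have := M.mul_mem (M.mul_mem h hb) (M.inv_mem h)
  rwa [conj_uniCenter] at this

/-- The torus components act simply transitively on the nonzero central coordinates. -/
theorem centParam_eq (hM : NoFix M) {b₀ : F} (h0 : b₀ ≠ 0) (hb₀ : b₀ ∈ centParam hS M) :
    Nat.card (centParam hS M) = Nat.card (torParam hS M) + 1 ∧
      ∀ b ∈ centParam hS M, b ≠ 0 → ∃ μ ∈ torParam hS M, b = (μ : F) * θ m (μ : F) * b₀ := by
  classical
  have hfix : ∀ b : F, uniEl hS 0 b • ovoidInf (F := F) (m := m) = ovoidInf := fun b =>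
    Subtype.ext (uniEl_smul_infinity hS 0 b)
  have htrans : ∀ b ∈ centParam hS M, b ≠ 0 →
      ∃ μ ∈ torParam hS M, b = (μ : F) * θ m (μ : F) * b₀ := by
    intro b hb hb0
    obtain ⟨w, hw, e, ew⟩ := conj_involutions hS hM hb₀ hb (orderOf_uniEl_cent hS h0)
      (orderOf_uniEl_cent hS hb0) (hfix b₀) (hfix b)
    obtain ⟨c, d, μ, rfl⟩ := stab_inf_eq hS ew
    rw [conj_uniCenter, uniEl_eq_iff] at e
    exact ⟨μ, ⟨c, d, hw⟩, e.2.symm⟩
  refine ⟨?_, htrans⟩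
  rw [← Finite.card_option]
  symm
  refine Nat.card_eq_of_bijective (fun o : Option (torParam hS M) =>
    match o with
    | none => (0 : centParam hS M)
    | some μ => ⟨((μ : Fˣ) : F) * θ m ((μ : Fˣ) : F) * b₀, conj_cent hS μ.2 hb₀⟩) ⟨?_, ?_⟩
  · have hne : ∀ μ : torParam hS M, ((μ : Fˣ) : F) * θ m ((μ : Fˣ) : F) * b₀ ≠ 0 := fun μ =>
      mul_ne_zero (mul_ne_zero (μ : Fˣ).ne_zero (fun e => (μ : Fˣ).ne_zero (θ_eq_zero.1 e))) h0
    rintro (_ | μ) (_ | ν) h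
    · rfl
    · exact absurd (congrArg Subtype.val h).symm (hne ν)
    · exact absurd (congrArg Subtype.val h) (hne μ)
    · exact congrArg some (Subtype.ext (Units.ext
        (self_mul_θ_injective hS (mul_right_cancel₀ h0 (congrArg Subtype.val h)))))
  · rintro ⟨b, hb⟩
    by_cases hb0 : b = 0
    · subst hb0; exact ⟨none, rfl⟩
    · obtain ⟨μ, hμ, e⟩ := htrans b hb hb0
      exact ⟨some ⟨μ, hμ⟩, Subtype.ext e.symm⟩

/-- An element of order 4 gives a nonzero first coordinate. -/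
theorem firstParam_of_order_four (hM : NoFix M) {b₀ : F} (h0 : b₀ ≠ 0)
    (hb₀ : b₀ ∈ centParam hS M) {u : Cfsg.Sz F m} (hu : u ∈ M) (hu4 : orderOf u = 4) :
    ∃ a ∈ firstParam hS M, a ≠ 0 := by
  obtain ⟨h1, h4⟩ := ne_one_and_pow_four (Or.inr hu4)
  obtain ⟨p, hp, -⟩ := existsUnique_fixed hS h1 h4
  have h2 : orderOf (u ^ 2) = 2 := by rw [orderOf_pow, hu4]; rfl
  obtain ⟨w, hw, -, ew⟩ := conj_involutions hS hM (M.pow_mem hu 2) hb₀ h2
    (orderOf_uniEl_cent hS h0) (by rw [pow_two, mul_smul, hp, hp])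
    (Subtype.ext (uniEl_smul_infinity hS 0 b₀) :
      uniEl hS 0 b₀ • ovoidInf (F := F) (m := m) = ovoidInf)
  obtain ⟨a, b, e⟩ := mem_uniSub_of_pow_four hS (ew ▸ conj_mem_stabilizer (k := w) hp)
    (by rw [conj_pow, h4, mul_one, mul_inv_cancel])
  refine ⟨a, ⟨b, e ▸ M.mul_mem (M.mul_mem hw hu) (M.inv_mem hw)⟩, fun ha => ?_⟩
  have : (w * u * w⁻¹) ^ 2 = 1 := by
    rw [e, ha, pow_two, uniEl_sq hS, ← uniEl_zero hS, uniEl_eq_iff]
    exact ⟨rfl, by simp⟩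
  rw [conj_pow, mul_inv_eq_one, mul_eq_left] at this
  rw [this, orderOf_one] at h2
  omega

/-- The class equation of a subgroup with an involution fixing `∞` and no fixed point. -/
theorem equation {A : Fin 3 → Subgroup (Cfsg.Sz F m)} (hA : Tori hS A) (hM : NoFix M) {b₀ : F}
    (h0 : b₀ ≠ 0) (hb₀ : b₀ ∈ centParam hS M) :
    ∃ (R : Finset (Idx A)) (n : ℕ), IsClass R (classE M) (classA M) ∧
      (∀ r : Idx A, r ∈ R → Nat.card ↥(M ⊓ stabilizer (Cfsg.Sz F m) r.2) = classE M r * classA M r ∧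
        ¬ 2 ∣ classA M r ∧ ¬ 3 ∣ classA M r ∧
        (classE M r = 4 → ∃ a ∈ firstParam hS M, a ≠ 0)) ∧
      (∀ x : Idx A, 1 < classA M x → ∃ r ∈ R, classA M r = classA M x ∧
        Nat.card ↥(M ⊓ stabilizer (Cfsg.Sz F m) r.2) =
          Nat.card ↥(M ⊓ stabilizer (Cfsg.Sz F m) x.2)) ∧
      n = Nat.card (orbit M (ovoidInf (F := F) (m := m))) ∧ 2 ≤ n ∧
      n * (Nat.card ↥(M ⊓ uniSub hS) * Nat.card (torParam hS M)) = Nat.card M ∧
      (Nat.card M : ℚ) - 1 = (n : ℚ) * ((Nat.card ↥(M ⊓ uniSub hS) : ℚ) - 1) +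
        (Nat.card M : ℚ) * ∑ r ∈ R, wgt (classE M r) (classA M r) := by
  have := Fintype.ofFinite (Cfsg.suzukiOvoid F m)
  obtain ⟨R, hR, hfacts, hsurj, heq⟩ := exists_classes hA M
  obtain ⟨h1, h2, h3⟩ := point_sum hS hM hb₀ (orderOf_uniEl_cent hS h0)
    (Subtype.ext (uniEl_smul_infinity hS 0 b₀) :
      uniEl hS 0 b₀ • ovoidInf (F := F) (m := m) = ovoidInf)
  refine ⟨R, _, hR, fun r hr => ?_, hsurj, rfl, h3, ?_, ?_⟩
  · obtain ⟨e1, e2, e3, -, e4⟩ := hfacts r hr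
    refine ⟨e1, e2, e3, fun h => ?_⟩
    obtain ⟨u, hu, hu4⟩ := e4 h
    exact firstParam_of_order_four hM h0 hb₀ hu hu4
  · rw [← card_inf_borel]; exact h2
  · have := heq
    rw [h1, twoSub_inf, Nat.cast_mul, Nat.cast_sub Nat.card_pos, Nat.cast_one] at this
    exact this

end CfsgLib.SuzukiSub
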