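import Cfsg.Agent.SuzukiLocal.Solubilizer

/-!
# The class equation of a subgroup of `Cfsg.Sz`
-/

set_option autoImplicit false
set_option linter.unusedSectionVars false

namespace CfsgLib.SuzukiSub

open CfsgLib.Suzuki CfsgLib.SuzukiLocal MulAction

variable {F : Type*} [Field F] [Fintype F] {m : ℕ}

/-- The 2-elements fixing `p`. -/
def twoSub (hS : SzField F m) (p : Cfsg.suzukiOvoid F m) : Subgroup (Cfsg.Sz F m) where
  carrier := {g | g • p = p ∧ g ^ 4 = 1}
  one_mem' := ⟨one_smul _ _, one_pow _⟩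
  inv_mem' {g} hg := ⟨inv_smul_eq_iff.2 hg.1.symm, by rw [inv_pow, hg.2, inv_one]⟩
  mul_mem' {g h} hg hh := by
    refine ⟨by rw [mul_smul, hh.1, hg.1], ?_⟩
    obtain ⟨k, hk⟩ := (sz_pretransitive hS).exists_smul_eq p ovoidInf
    have key : ∀ u : Cfsg.Sz F m, u • p = p → u ^ 4 = 1 → k * u * k⁻¹ ∈ uniSub hS := fun u hu h4 =>
      mem_uniSub_of_pow_four hS (hk ▸ conj_mem_stabilizer hu)
        (by rw [conj_pow, h4, mul_one, mul_inv_cancel])
    have h4 := pow_four_of_mem_uniSub hS (mul_mem (key g hg.1 hg.2) (key h hh.1 hh.2))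
    rw [conj_mul, conj_pow, mul_inv_eq_one, mul_eq_left] at h4
    exact h4

theorem mem_twoSub {hS : SzField F m} {p : Cfsg.suzukiOvoid F m} {g : Cfsg.Sz F m} :
    g ∈ twoSub hS p ↔ g • p = p ∧ g ^ 4 = 1 := Iff.rfl

theorem twoSub_inf (hS : SzField F m) : twoSub hS (ovoidInf (F := F) (m := m)) = uniSub hS := by
  ext g
  refine ⟨fun h => mem_uniSub_of_pow_four hS h.1 h.2, ?_⟩
  rintro ⟨a, b, rfl⟩
  exact ⟨Subtype.ext (uniEl_smul_infinity hS a b), pow_four_of_mem_uniSub hS (uniEl_mem hS a b)⟩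

variable {hS : SzField F m} {A : Fin 3 → Subgroup (Cfsg.Sz F m)}

/-- The torus cosets of the three classes. -/
abbrev Idx (A : Fin 3 → Subgroup (Cfsg.Sz F m)) :=
  Σ i : Fin 3, Cfsg.Sz F m ⧸ Subgroup.normalizer (A i : Set (Cfsg.Sz F m))

/-- The torus attached to a coset. -/
noncomputable def torOf (x : Idx A) : Subgroup (Cfsg.Sz F m) :=
  (A x.1).map (MulAut.conj x.2.out).toMonoidHom

theorem mem_torOf {x : Idx A} {g : Cfsg.Sz F m} :
    g ∈ torOf x ↔ x.2.out⁻¹ * g * x.2.out ∈ A x.1 := by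
  rw [torOf, Subgroup.mem_map_equiv, MulAut.conj_symm_apply]

section
variable (hA : Tori hS A) (M : Subgroup (Cfsg.Sz F m))
include hA

theorem mem_torOf_mk {i : Fin 3} {g h : Cfsg.Sz F m} :
    h ∈ torOf (⟨i, (g : Cfsg.Sz F m ⧸ Subgroup.normalizer (A i : Set (Cfsg.Sz F m)))⟩ : Idx A) ↔
      g⁻¹ * h * g ∈ A i := by
  rw [mem_torOf]
  have hn := QuotientGroup.eq.1 (QuotientGroup.out_eq'
    (g : Cfsg.Sz F m ⧸ Subgroup.normalizer (A i : Set (Cfsg.Sz F m))))
  set o := Quotient.out (g : Cfsg.Sz F m ⧸ Subgroup.normalizer (A i : Set (Cfsg.Sz F m)))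
  constructor
  · intro h1
    have := (Subgroup.mem_normalizer_iff''.1 hn _).1 h1
    rwa [show (o⁻¹ * g)⁻¹ * (o⁻¹ * h * o) * (o⁻¹ * g) = g⁻¹ * h * g by group] at this
  · intro h1
    have := (Subgroup.mem_normalizer_iff.1 hn _).1 h1
    rwa [show o⁻¹ * g * (g⁻¹ * h * g) * (o⁻¹ * g)⁻¹ = o⁻¹ * h * o by group] at this

theorem stab_eq_normalizer (x : Idx A) :
    stabilizer (Cfsg.Sz F m) x.2 = Subgroup.normalizer (torOf x : Set (Cfsg.Sz F m)) := by
  obtain ⟨i, c⟩ := x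
  conv_lhs => rw [← QuotientGroup.out_eq' c]
  exact hA.stabilizer_mk i _

theorem torOf_le_stab (x : Idx A) : torOf x ≤ stabilizer (Cfsg.Sz F m) x.2 := by
  rw [stab_eq_normalizer hA]; exact Subgroup.le_normalizer

theorem torOf_unique {g : Cfsg.Sz F m} (h1 : g ≠ 1) {x y : Idx A} (hx : g ∈ torOf x)
    (hy : g ∈ torOf y) : x = y := by
  obtain ⟨i, c⟩ := x
  obtain ⟨j, d⟩ := y
  rw [mem_torOf] at hx hy
  dsimp only at hx hy
  obtain rfl := hA.index_eq h1 hx hy
  have := hA.mk_eq h1 hx hy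
  rw [QuotientGroup.out_eq', QuotientGroup.out_eq'] at this
  rw [this]

theorem torOf_smul (u : Cfsg.Sz F m) (x : Idx A) :
    torOf (u • x) = (torOf x).map (MulAut.conj u).toMonoidHom := by
  obtain ⟨i, c⟩ := x
  obtain ⟨g, rfl⟩ := QuotientGroup.mk_surjective c
  ext h
  rw [Subgroup.mem_map_equiv, MulAut.conj_symm_apply, mem_torOf_mk hA]
  rw [Sigma.smul_mk, MulAction.Quotient.smul_coe, smul_eq_mul, mem_torOf_mk hA, show (u * g)⁻¹ * h * (u * g) = g⁻¹ * (u⁻¹ * h * u) * g by group]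

theorem three_not_dvd_subgroup : ¬ 3 ∣ Nat.card M :=
  fun h => three_not_dvd hS (h.trans (Subgroup.card_subgroup_dvd_card M))

/-- Facts on the intersection of `M` with a torus and its normalizer. -/
theorem inter_facts (x : Idx A) :
    (1 < Nat.card ↥(M ⊓ torOf x) → 5 ≤ Nat.card ↥(M ⊓ torOf x)) ∧
      ∃ e, (e = 1 ∨ e = 2 ∨ e = 4) ∧
        Nat.card ↥(M ⊓ stabilizer (Cfsg.Sz F m) x.2) = e * Nat.card ↥(M ⊓ torOf x) ∧
        (2 ∣ e → ∃ u ∈ M, orderOf u = 2) ∧ (e = 4 → ∃ u ∈ M, orderOf u = 4) := by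
  have hG := (hA.good x.1).map_conj x.2.out
  change GoodTorus (torOf x) (eT x.1) at hG
  rw [stab_eq_normalizer hA]
  set N := Subgroup.normalizer (torOf x : Set (Cfsg.Sz F m))
  set a := Nat.card ↥(M ⊓ torOf x) with ha
  have hodd : ¬ 2 ∣ a := fun h => hG.odd (h.trans (Subgroup.card_dvd_of_le inf_le_right))
  refine ⟨fun h1 => ?_, ?_⟩
  · have h3 : a ≠ 3 := fun h => three_not_dvd_subgroup hA M
      (h ▸ Subgroup.card_dvd_of_le (inf_le_left : M ⊓ torOf x ≤ M))
    omega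
  set L := M ⊓ N
  have hTN : torOf x ≤ N := Subgroup.le_normalizer
  have hinf : M ⊓ torOf x = torOf x ⊓ L := by
    ext g
    exact ⟨fun ⟨h1, h2⟩ => ⟨h2, h1, hTN h2⟩, fun ⟨h1, h2, _⟩ => ⟨h2, h1⟩⟩
  obtain ⟨e, he, hL⟩ : ∃ e, e ∣ eT x.1 ∧ Nat.card L = e * a := by
    refine ⟨(torOf x).relIndex L, ?_, ?_⟩
    · have : ((torOf x).subgroupOf N).Normal := Subgroup.normal_in_normalizer
      have h := Subgroup.relIndex_dvd_index_of_normal ((torOf x).subgroupOf N) (L.subgroupOf N)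
      rw [Subgroup.relIndex_subgroupOf inf_le_right] at h
      have hi : ((torOf x).subgroupOf N).index = eT x.1 := by
        have := Subgroup.card_mul_index ((torOf x).subgroupOf N)
        rw [Nat.card_congr (Subgroup.subgroupOfEquivOfLe hTN).toEquiv, hG.card_normalizer,
          mul_comm (eT x.1)] at this
        exact Nat.eq_of_mul_eq_mul_left Nat.card_pos this
      rwa [hi] at h
    · rw [← Subgroup.inf_relIndex_right, ← hinf, mul_comm, ha,
        ← Nat.card_congr (Subgroup.subgroupOfEquivOfLe (hinf ▸ inf_le_right : M ⊓ torOf x ≤ L)).toEquiv,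
        Subgroup.relIndex, Subgroup.card_mul_index]
  refine ⟨e, ?_, hL, fun h2 => ?_, fun h4 => ?_⟩
  · have h4 : e ∣ 4 := he.trans (by rcases hG.index_cases with h | h <;> rw [h] <;> norm_num)
    have := Nat.le_of_dvd (by norm_num) h4
    interval_cases e <;> omega
  · have : Fact (Nat.Prime 2) := ⟨Nat.prime_two⟩
    obtain ⟨⟨u, hu, huN⟩, hu2⟩ := exists_prime_orderOf_dvd_card' (G := L) 2
      (by rw [hL]; exact h2.mul_right _)
    exact ⟨u, hu, (Subgroup.orderOf_coe _).trans hu2⟩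
  · have : Fact (Nat.Prime 2) := ⟨Nat.prime_two⟩
    obtain ⟨P, hP⟩ := Sylow.exists_subgroup_card_pow_prime (G := L) 2 (n := 2)
      (by rw [hL, h4]; exact dvd_mul_right _ _)
    by_contra hno
    push Not at hno
    have hinv : ∀ g : P, (g : L) ≠ 1 → orderOf ((g : L) : Cfsg.Sz F m) = 2 := by
      intro g hg
      have hd : orderOf g ∣ 2 ^ 2 := hP ▸ orderOf_dvd_natCard g
      rw [← Subgroup.orderOf_coe, ← Subgroup.orderOf_coe] at hd
      obtain ⟨i, hi, e'⟩ := (Nat.dvd_prime_pow Nat.prime_two).1 hd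
      interval_cases i
      · exact absurd (Subtype.ext (orderOf_eq_one_iff.1 e')) hg
      · exact e'
      · exact absurd e' (hno _ (g : L).2.1)
    have : Nontrivial P := Finite.one_lt_card_iff_nontrivial.1 (by rw [hP]; norm_num)
    obtain ⟨u, hu⟩ := exists_ne (1 : P)
    have hu' : (u : L) ≠ 1 := fun e => hu (Subtype.ext e)
    have hall : ∀ g : P, g = 1 ∨ g = u := by
      intro g
      by_contra h
      push Not at h
      have hg' : (g : L) ≠ 1 := fun e => h.1 (Subtype.ext e)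
      have hgu : ((g * u : P) : L) ≠ 1 := by
        intro e
        refine h.2 ?_
        have e2 : g * u = 1 := Subtype.ext e
        rw [eq_inv_of_mul_eq_one_left e2]
        exact inv_eq_of_mul_eq_one_right (Subtype.ext (Subtype.ext
          (by rw [Subgroup.coe_mul, Subgroup.coe_mul, ← pow_two, ← hinv u hu']; exact pow_orderOf_eq_one _)))
      obtain ⟨a, ha, ha1⟩ := hG.exists_ne_one
      have e1 := hG.inv_of_involution (g : L).2.2 (hinv g hg') ha
      have e2 := hG.inv_of_involution (u : L).2.2 (hinv u hu') (inv_mem ha)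
      have e3 := hG.inv_of_involution ((g * u : P) : L).2.2 (hinv _ hgu) (inv_mem ha)
      simp only [Subgroup.coe_mul] at e3
      set G' := ((g : L) : Cfsg.Sz F m)
      set U' := ((u : L) : Cfsg.Sz F m)
      rw [show G' * U' * a⁻¹ * (G' * U')⁻¹ = G' * (U' * a⁻¹ * U'⁻¹) * G'⁻¹ by group, e2,
        inv_inv, e1] at e3
      exact ha1 (hG.four_not_dvd_orderOf ha (by
        have h2 : a * a = 1 := by
          nth_rewrite 1 [← e3]
          exact inv_mul_cancel a
        calc a ^ 4 = (a * a) * (a * a) := by simp [pow_succ, mul_assoc]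
          _ = 1 := by rw [h2, one_mul]))
    have hle : Nat.card P ≤ 2 := by
      refine le_trans (Nat.card_le_card_of_surjective (fun b : Bool => if b then u else 1) fun g => ?_)
        (by simp)
      rcases hall g with rfl | rfl
      · exact ⟨false, by simp⟩
      · exact ⟨true, by simp⟩
    rw [hP] at hle
    norm_num at hle

/-- Every nontrivial element lies in exactly one `twoSub` or torus. -/
theorem card_sub_one [Fintype (Idx A)] [Fintype (Cfsg.suzukiOvoid F m)] :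
    Nat.card M - 1 = ∑ p : Cfsg.suzukiOvoid F m, (Nat.card ↥(M ⊓ twoSub hS p) - 1) +
      ∑ x : Idx A, (Nat.card ↥(M ⊓ torOf x) - 1) := by
  classical
  have hne : ∀ (K : Subgroup (Cfsg.Sz F m)),
      Nat.card {g : Cfsg.Sz F m // g ∈ K ∧ g ≠ 1} = Nat.card K - 1 := by
    intro K
    rw [Nat.card_congr ((Equiv.subtypeSubtypeEquivSubtypeInter (· ∈ K) (· ≠ 1)).symm),
      Nat.card_congr (Equiv.subtypeEquivRight (q := fun g : K => g ≠ 1) fun g => by simp),
      Nat.card_eq_fintype_card, Fintype.card_subtype_compl, Fintype.card_subtype_eq,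
      Nat.card_eq_fintype_card]
  rw [← hne M, ← Finset.sum_congr rfl (fun p _ => hne (M ⊓ twoSub hS p)),
    ← Finset.sum_congr rfl (fun x _ => hne (M ⊓ torOf x)), ← Nat.card_sigma, ← Nat.card_sigma,
    ← Nat.card_sum]
  symm
  refine Nat.card_eq_of_bijective (Sum.elim
    (fun z : Σ p : Cfsg.suzukiOvoid F m, {g : Cfsg.Sz F m // g ∈ M ⊓ twoSub hS p ∧ g ≠ 1} =>
      (⟨z.2.1, z.2.2.1.1, z.2.2.2⟩ : {g : Cfsg.Sz F m // g ∈ M ∧ g ≠ 1}))
    (fun z : Σ x : Idx A, {g : Cfsg.Sz F m // g ∈ M ⊓ torOf x ∧ g ≠ 1} =>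
      (⟨z.2.1, z.2.2.1.1, z.2.2.2⟩ : {g : Cfsg.Sz F m // g ∈ M ∧ g ≠ 1}))) ⟨?_, ?_⟩
  · rintro (⟨p, g, hg, hg1⟩ | ⟨x, g, hg, hg1⟩) (⟨p', g', hg', hg1'⟩ | ⟨x', g', hg', hg1'⟩) h <;>
      obtain rfl : g = g' := congrArg Subtype.val h
    · obtain rfl : p = p' := (existsUnique_fixed hS hg1 hg.2.2).unique hg.2.1 hg'.2.1
      rfl
    · exact absurd hg.2.2 (hA.pow_four_ne_one hg1 (mem_torOf.1 hg'.2))
    · exact absurd hg'.2.2 (hA.pow_four_ne_one hg1 (mem_torOf.1 hg.2))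
    · obtain rfl := torOf_unique hA hg1 hg.2 hg'.2
      rfl
  · rintro ⟨g, hg, hg1⟩
    rcases hA.cover g hg1 with h4 | ⟨i, k, hk⟩
    · obtain ⟨p, hp, -⟩ := existsUnique_fixed hS hg1 h4
      exact ⟨Sum.inl ⟨p, g, ⟨hg, hp, h4⟩, hg1⟩, rfl⟩
    · exact ⟨Sum.inr ⟨⟨i, k⟩, g, ⟨hg, (mem_torOf_mk hA).2 hk⟩, hg1⟩, rfl⟩

/-- The torus contribution, orbit by orbit. -/
theorem exists_reps [Fintype (Idx A)] :
    ∃ R : Finset (Idx A), (∀ x : Idx A, x ∈ R → 1 < Nat.card ↥(M ⊓ torOf x)) ∧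
      (∀ x : Idx A, 1 < Nat.card ↥(M ⊓ torOf x) → ∃ r ∈ R,
        Nat.card ↥(M ⊓ torOf r) = Nat.card ↥(M ⊓ torOf x) ∧
        Nat.card ↥(M ⊓ stabilizer (Cfsg.Sz F m) r.2) =
          Nat.card ↥(M ⊓ stabilizer (Cfsg.Sz F m) x.2)) ∧
      ((∑ x : Idx A, (Nat.card ↥(M ⊓ torOf x) - 1) : ℕ) : ℚ) =
        (Nat.card M : ℚ) * ∑ r ∈ R, ((Nat.card ↥(M ⊓ torOf r) : ℚ) - 1) /
          (Nat.card ↥(M ⊓ stabilizer (Cfsg.Sz F m) r.2)) := by
  classical
  have hconj : ∀ (u : M) (K : Subgroup (Cfsg.Sz F m)),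
      Nat.card ↥(M ⊓ K.map (MulAut.conj (u : Cfsg.Sz F m)).toMonoidHom) = Nat.card ↥(M ⊓ K) := by
    intro u K
    rw [Nat.card_congr ((M ⊓ K).equivMapOfInjective (MulAut.conj (u : Cfsg.Sz F m)).toMonoidHom
      (MulAut.conj (u : Cfsg.Sz F m)).injective).toEquiv, Subgroup.map_inf_eq _ _ _ (MulAut.conj _).injective]
    have hM : M.map (MulAut.conj (u : Cfsg.Sz F m)).toMonoidHom = M := by
      ext g
      rw [Subgroup.mem_map_equiv, MulAut.conj_symm_apply, M.mul_mem_cancel_right u.2,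
        M.mul_mem_cancel_left (inv_mem u.2)]
    rw [hM]
  have hinv : ∀ (u : M) (x : Idx A),
      Nat.card ↥(M ⊓ torOf (u • x)) = Nat.card ↥(M ⊓ torOf x) ∧
      Nat.card ↥(M ⊓ stabilizer (Cfsg.Sz F m) (u • x).2) =
        Nat.card ↥(M ⊓ stabilizer (Cfsg.Sz F m) x.2) := by
    intro u x
    refine ⟨?_, ?_⟩
    · show Nat.card ↥(M ⊓ torOf ((u : Cfsg.Sz F m) • x)) = _
      rw [torOf_smul hA, hconj]
    · show Nat.card ↥(M ⊓ stabilizer (Cfsg.Sz F m) ((u : Cfsg.Sz F m) • x.2)) = _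
      rw [stabilizer_smul_eq_stabilizer_map_conj, hconj]
  let q : Idx A → orbitRel.Quotient M (Idx A) := Quotient.mk''
  have hq : ∀ x, ∃ u : M, u • x = (q x).out := fun x =>
    Quotient.mk_out (s := orbitRel M (Idx A)) x
  set big := Finset.univ.filter (fun x : Idx A => 1 < Nat.card ↥(M ⊓ torOf x))
  refine ⟨(big.image q).image Quotient.out, ?_, ?_, ?_⟩
  · intro r hr
    simp only [Finset.mem_image] at hr
    obtain ⟨_, ⟨x, hx, rfl⟩, rfl⟩ := hr
    obtain ⟨u, hu⟩ := hq x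
    rw [← hu, (hinv u x).1]
    exact (Finset.mem_filter.1 hx).2
  · intro x hx
    refine ⟨(q x).out, Finset.mem_image_of_mem _ (Finset.mem_image_of_mem _
      (Finset.mem_filter.2 ⟨Finset.mem_univ _, hx⟩)), ?_⟩
    obtain ⟨u, hu⟩ := hq x
    rw [← hu]
    exact hinv u x
  rw [Finset.sum_image (fun a _ b _ h => Quotient.out_injective h), Finset.mul_sum]
  have h0 : ∑ x : Idx A, (Nat.card ↥(M ⊓ torOf x) - 1) =
      ∑ x ∈ big, (Nat.card ↥(M ⊓ torOf x) - 1) :=
    (Finset.sum_subset (Finset.subset_univ _) fun x _ hx => by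
      have : ¬ 1 < Nat.card ↥(M ⊓ torOf x) := fun h => hx (Finset.mem_filter.2 ⟨Finset.mem_univ _, h⟩)
      omega).symm
  rw [h0, Nat.cast_sum, ← Finset.sum_fiberwise_of_maps_to (t := big.image q) (g := q)
    (fun x hx => Finset.mem_image_of_mem _ hx)]
  refine Finset.sum_congr rfl fun ω hω => ?_
  obtain ⟨x0, hx0, rfl⟩ := Finset.mem_image.1 hω
  set r := (q x0).out
  have hconst : ∀ x, q x = q x0 → Nat.card ↥(M ⊓ torOf x) = Nat.card ↥(M ⊓ torOf r) := by
    intro x hx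
    obtain ⟨u, hu⟩ := hq x
    rw [hx] at hu
    show _ = Nat.card ↥(M ⊓ torOf (q x0).out)
    rw [← hu, (hinv u x).1]
  have hfib : big.filter (fun x => q x = q x0) = Finset.univ.filter (fun x => q x = q x0) := by
    ext x
    simp only [Finset.mem_filter, Finset.mem_univ, true_and, and_iff_right_iff_imp]
    intro hx
    refine Finset.mem_filter.2 ⟨Finset.mem_univ _, ?_⟩
    rw [hconst x hx, ← hconst x0 rfl]
    exact (Finset.mem_filter.1 hx0).2
  have horb : (Finset.univ.filter (fun x => q x = q x0)).card *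
      Nat.card ↥(M ⊓ stabilizer (Cfsg.Sz F m) r.2) = Nat.card M := by
    have h1 : (Finset.univ.filter (fun x => q x = q x0)).card = Nat.card (orbit M r) := by
      rw [Nat.card_coe_set_eq, ← Set.ncard_coe_finset]
      congr 1
      ext x
      rw [Finset.coe_filter]
      simp only [Finset.mem_univ, true_and, Set.mem_ofPred_eq]
      have h : q x = q (q x0).out ↔ x ∈ orbit M (q x0).out := Quotient.eq''.trans orbitRel_apply
      rwa [show q (q x0).out = q x0 from Quotient.out_eq' _] at h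
    have h2 : Nat.card ↥(M ⊓ stabilizer (Cfsg.Sz F m) r.2) = Nat.card (stabilizer M r) := by
      refine Nat.card_congr
        { toFun := fun g => ⟨⟨g.1, g.2.1⟩, Sigma.ext rfl (heq_of_eq g.2.2)⟩
          invFun := fun g => ⟨g.1.1, g.1.2, eq_of_heq (Sigma.ext_iff.1 g.2).2⟩
          left_inv := fun g => rfl
          right_inv := fun g => rfl }
    rw [h1, h2, ← Nat.card_prod]
    exact Nat.card_congr (orbitProdStabilizerEquivGroup M r)
  rw [Finset.sum_congr rfl (fun x hx => by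
    rw [hconst x (Finset.mem_filter.1 hx).2]), Finset.sum_const, hfib, nsmul_eq_mul,
    Nat.cast_sub Nat.card_pos, ← horb]
  push_cast
  have hpos : (Nat.card ↥(M ⊓ stabilizer (Cfsg.Sz F m) r.2) : ℚ) ≠ 0 := by
    exact_mod_cast Nat.card_pos.ne'
  field_simp

end

end CfsgLib.SuzukiSub
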