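import Cfsg.Agent.SuzukiSub.ClassEquation
import Cfsg.Agent.SuzukiSub.Arith

/-!
# Involutions and fixed points in a subgroup of `Cfsg.Sz`
-/

set_option autoImplicit false
set_option linter.unusedSectionVars false

namespace CfsgLib.SuzukiSub

open CfsgLib.Suzuki CfsgLib.SuzukiLocal MulAction

variable {F : Type*} [Field F] [Fintype F] {m : ℕ}

/-- `M` has no fixed point on the ovoid. -/
def NoFix (M : Subgroup (Cfsg.Sz F m)) : Prop :=
  ∀ p : Cfsg.suzukiOvoid F m, ∃ g ∈ M, g • p ≠ p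

theorem ne_one_and_pow_four {u : Cfsg.Sz F m} (h : orderOf u = 2 ∨ orderOf u = 4) :
    u ≠ 1 ∧ u ^ 4 = 1 :=
  ⟨fun e => by rw [e, orderOf_one] at h; omega,
    orderOf_dvd_iff_pow_eq_one.1 (by rcases h with h | h <;> simp [h])⟩

theorem conj_of_ne_point (hS : SzField F m) {M : Subgroup (Cfsg.Sz F m)} {u v : Cfsg.Sz F m}
    (hu : u ∈ M) (hv : v ∈ M) (hu2 : orderOf u = 2) (hv2 : orderOf v = 2)
    {p p' : Cfsg.suzukiOvoid F m} (hp : u • p = p) (hp' : v • p' = p') (hne : p ≠ p') :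
    ∃ w ∈ M, w * u * w⁻¹ = v ∧ w • p = p' := by
  obtain ⟨hu1, hu4⟩ := ne_one_and_pow_four (Or.inl hu2)
  obtain ⟨hv1, hv4⟩ := ne_one_and_pow_four (Or.inl hv2)
  have huu : u * u = 1 := by rw [← pow_two, ← hu2]; exact pow_orderOf_eq_one u
  have hvv : v * v = 1 := by rw [← pow_two, ← hv2]; exact pow_orderOf_eq_one v
  have hui : u⁻¹ = u := inv_eq_of_mul_eq_one_right huu
  have hvi : v⁻¹ = v := inv_eq_of_mul_eq_one_right hvv
  set w := u * v with hw
  set n := orderOf w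
  have hinv : ∀ j : ℕ, u * w ^ j * u = (w ^ j)⁻¹ := by
    intro j
    rw [← inv_pow]
    nth_rewrite 2 [← hui]
    rw [← conj_pow]
    congr 1
    rw [hw, mul_inv_rev, hvi, hui, ← mul_assoc, huu, one_mul]
  have hodd : ¬ 2 ∣ n := by
    rintro ⟨j, hj⟩
    have hnpos : 0 < n := orderOf_pos w
    have hsq : w ^ j * w ^ j = 1 := by rw [← pow_add, ← two_mul, ← hj]; exact pow_orderOf_eq_one w
    set i := w ^ j with hi
    have hi1 : i ≠ 1 := pow_ne_one_of_lt_orderOf (by omega) (by omega)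
    have hii : i⁻¹ = i := inv_eq_of_mul_eq_one_right hsq
    have hcu : u * i = i * u := by
      have := hinv j
      rw [hii] at this
      calc u * i = u * i * (u * u) := by rw [huu, mul_one]
        _ = (u * i * u) * u := by group
        _ = i * u := by rw [this]
    have hwi : i * w = w * i := ((Commute.refl w).pow_left j).eq
    have hcv : v * i = i * v := by
      have e : v = u * w := by rw [hw, ← mul_assoc, huu, one_mul]
      rw [e, mul_assoc, ← hwi, ← mul_assoc, hcu, mul_assoc]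
    obtain ⟨r, hr, hruniq⟩ := existsUnique_fixed hS hi1
      (show i ^ 4 = 1 by rw [pow_succ, pow_succ, pow_two, hsq, one_mul, hsq])
    have hur : u • r = r := hruniq _ (show i • u • r = u • r by rw [← mul_smul, ← hcu, mul_smul, hr])
    have hvr : v • r = r := hruniq _ (show i • v • r = v • r by rw [← mul_smul, ← hcv, mul_smul, hr])
    exact hne (((existsUnique_fixed hS hu1 hu4).unique hp hur).trans
      ((existsUnique_fixed hS hv1 hv4).unique hvr hp'))
  obtain ⟨j, hj⟩ : ∃ j, n = 2 * j + 1 := ⟨n / 2, by omega⟩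
  have hconj : w ^ j * u * (w ^ j)⁻¹ = v := by
    have h1 : w ^ (2 * j) * w = 1 := by rw [← pow_succ, ← hj]; exact pow_orderOf_eq_one w
    calc w ^ j * u * (w ^ j)⁻¹ = w ^ j * u * (u * w ^ j * u) := by rw [hinv j]
      _ = w ^ j * (u * u) * w ^ j * u := by group
      _ = w ^ (2 * j) * u := by rw [huu, mul_one, two_mul, pow_add]
      _ = w⁻¹ * u := by rw [eq_inv_of_mul_eq_one_left h1]
      _ = v := by rw [hw, mul_inv_rev, hvi, hui, mul_assoc, huu, mul_one]
  refine ⟨w ^ j, M.pow_mem (M.mul_mem hu hv) j, hconj,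
    (existsUnique_fixed hS hv1 hv4).unique ?_ hp'⟩
  rw [← hconj]
  exact conj_mem_stabilizer hp

/-- All involutions are conjugate in a subgroup without fixed points. -/
theorem conj_involutions (hS : SzField F m) {M : Subgroup (Cfsg.Sz F m)} (hM : NoFix M)
    {u v : Cfsg.Sz F m} (hu : u ∈ M) (hv : v ∈ M) (hu2 : orderOf u = 2) (hv2 : orderOf v = 2)
    {p p' : Cfsg.suzukiOvoid F m} (hp : u • p = p) (hp' : v • p' = p') :
    ∃ w ∈ M, w * u * w⁻¹ = v ∧ w • p = p' := by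
  by_cases hne : p = p'
  · obtain ⟨g, hg, hgp⟩ := hM p
    have hord : orderOf (g * u * g⁻¹) = 2 := (MulEquiv.orderOf_eq (MulAut.conj g) u).trans hu2
    have hmem : g * u * g⁻¹ ∈ M := M.mul_mem (M.mul_mem hg hu) (M.inv_mem hg)
    obtain ⟨a, ha, e1, e1'⟩ :=
      conj_of_ne_point hS hu hmem hu2 hord hp (conj_mem_stabilizer hp) (Ne.symm hgp)
    obtain ⟨b, hb, e2, e2'⟩ :=
      conj_of_ne_point hS hmem hv hord hv2 (conj_mem_stabilizer hp) hp' (hne ▸ hgp)
    refine ⟨b * a, M.mul_mem hb ha, ?_, by rw [mul_smul, e1', e2']⟩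
    rw [← e2, ← e1]
    group
  · exact conj_of_ne_point hS hu hv hu2 hv2 hp hp' hne

/-- The involution power of a nontrivial element of `M ⊓ twoSub p`. -/
theorem exists_involution (hS : SzField F m) {M : Subgroup (Cfsg.Sz F m)}
    {p : Cfsg.suzukiOvoid F m} {g : Cfsg.Sz F m} (hg : g ∈ M ⊓ twoSub hS p) (h1 : g ≠ 1) :
    ∃ u ∈ M, orderOf u = 2 ∧ u • p = p := by
  obtain ⟨hgM, hgp, hg4⟩ := hg
  by_cases h2 : g ^ 2 = 1
  · exact ⟨g, hgM, orderOf_eq_prime h2 h1, hgp⟩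
  · refine ⟨g ^ 2, M.pow_mem hgM 2, orderOf_eq_prime (by rw [← pow_mul]; exact hg4) h2, ?_⟩
    rw [pow_two, mul_smul, hgp, hgp]

theorem card_inf_twoSub_conj (hS : SzField F m) {M : Subgroup (Cfsg.Sz F m)} {w : Cfsg.Sz F m}
    (hw : w ∈ M) (p : Cfsg.suzukiOvoid F m) :
    Nat.card ↥(M ⊓ twoSub hS (w • p)) = Nat.card ↥(M ⊓ twoSub hS p) := by
  refine Nat.card_congr
    { toFun := fun g => ⟨w⁻¹ * g * w, M.mul_mem (M.mul_mem (M.inv_mem hw) g.2.1) hw, ?_, ?_⟩
      invFun := fun g => ⟨w * g * w⁻¹, M.mul_mem (M.mul_mem hw g.2.1) (M.inv_mem hw),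
        conj_mem_stabilizer g.2.2.1, by rw [conj_pow, g.2.2.2, mul_one, mul_inv_cancel]⟩
      left_inv := fun g => Subtype.ext (by group)
      right_inv := fun g => Subtype.ext (by group) }
  · rw [mul_smul, mul_smul, g.2.2.1, inv_smul_smul]
  · have := conj_pow (i := 4) (a := w⁻¹) (b := (g : Cfsg.Sz F m))
    rw [inv_inv, g.2.2.2, mul_one, inv_mul_cancel] at this
    exact this

/-- The contribution of the 2-elements, and the orbit-stabiliser formula. -/
theorem point_sum (hS : SzField F m) [Fintype (Cfsg.suzukiOvoid F m)]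
    {M : Subgroup (Cfsg.Sz F m)} (hM : NoFix M) {u : Cfsg.Sz F m} (hu : u ∈ M)
    (hu2 : orderOf u = 2) {p₀ : Cfsg.suzukiOvoid F m} (hp : u • p₀ = p₀) :
    ∑ p : Cfsg.suzukiOvoid F m, (Nat.card ↥(M ⊓ twoSub hS p) - 1) =
      Nat.card (orbit M p₀) * (Nat.card ↥(M ⊓ twoSub hS p₀) - 1) ∧
    Nat.card (orbit M p₀) * Nat.card ↥(M ⊓ stabilizer (Cfsg.Sz F m) p₀) = Nat.card M ∧
    2 ≤ Nat.card (orbit M p₀) := by
  classical
  refine ⟨?_, ?_, ?_⟩
  · have hout : ∀ p ∈ (Finset.univ : Finset (Cfsg.suzukiOvoid F m)),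
        p ∉ (orbit M p₀).toFinset → Nat.card ↥(M ⊓ twoSub hS p) - 1 = 0 := by
      intro p _ hpn
      suffices h : M ⊓ twoSub hS p = ⊥ by rw [h, Subgroup.card_bot]
      rw [Subgroup.eq_bot_iff_forall]
      intro g hg
      by_contra h1
      obtain ⟨v, hv, hv2, hvp⟩ := exists_involution hS hg h1
      obtain ⟨w, hw, -, hwp⟩ := conj_involutions hS hM hu hv hu2 hv2 hp hvp
      exact hpn (Set.mem_toFinset.2 ⟨⟨w, hw⟩, hwp⟩)
    have hin : ∀ p ∈ (orbit M p₀).toFinset,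
        Nat.card ↥(M ⊓ twoSub hS p) - 1 = Nat.card ↥(M ⊓ twoSub hS p₀) - 1 := by
      intro p hp'
      obtain ⟨⟨w, hw⟩, rfl⟩ := Set.mem_toFinset.1 hp'
      show Nat.card ↥(M ⊓ twoSub hS (w • p₀)) - 1 = Nat.card ↥(M ⊓ twoSub hS p₀) - 1
      rw [card_inf_twoSub_conj hS hw]
    rw [← Finset.sum_subset (Finset.subset_univ (orbit M p₀).toFinset) hout,
      Finset.sum_congr rfl hin,
      Finset.sum_const, smul_eq_mul, Set.toFinset_card, ← Nat.card_eq_fintype_card]
  · have h2 : Nat.card ↥(M ⊓ stabilizer (Cfsg.Sz F m) p₀) = Nat.card (stabilizer M p₀) :=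
      Nat.card_congr
        { toFun := fun g => ⟨⟨g.1, g.2.1⟩, g.2.2⟩
          invFun := fun g => ⟨g.1.1, g.1.2, g.2⟩
          left_inv := fun g => rfl
          right_inv := fun g => rfl }
    rw [h2, ← Nat.card_prod]
    exact Nat.card_congr (orbitProdStabilizerEquivGroup M p₀)
  · obtain ⟨g, hg, hgp⟩ := hM p₀
    have : Nontrivial (orbit M p₀) :=
      ⟨⟨g • p₀, ⟨g, hg⟩, rfl⟩, ⟨p₀, mem_orbit_self p₀⟩, fun e => hgp (congrArg Subtype.val e)⟩
    exact Finite.one_lt_card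

variable {hS : SzField F m} {A : Fin 3 → Subgroup (Cfsg.Sz F m)}

/-- The contribution of a class. -/
noncomputable def classA (M : Subgroup (Cfsg.Sz F m)) (x : Idx A) : ℕ := Nat.card ↥(M ⊓ torOf x)

/-- The index of a class torus in its normalizer. -/
noncomputable def classE (M : Subgroup (Cfsg.Sz F m)) (x : Idx A) : ℕ :=
  Nat.card ↥(M ⊓ stabilizer (Cfsg.Sz F m) x.2) / Nat.card ↥(M ⊓ torOf x)

/-- Class equation in weight form. -/
theorem exists_classes (hA : Tori hS A) (M : Subgroup (Cfsg.Sz F m)) :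
    ∃ R : Finset (Idx A), IsClass R (classE M) (classA M) ∧
      (∀ r : Idx A, r ∈ R → Nat.card ↥(M ⊓ stabilizer (Cfsg.Sz F m) r.2) = classE M r * classA M r ∧
        ¬ 2 ∣ classA M r ∧ ¬ 3 ∣ classA M r ∧
        (2 ∣ classE M r → ∃ u ∈ M, orderOf u = 2) ∧ (classE M r = 4 → ∃ u ∈ M, orderOf u = 4)) ∧
      (∀ x : Idx A, 1 < classA M x → ∃ r ∈ R, classA M r = classA M x ∧
        Nat.card ↥(M ⊓ stabilizer (Cfsg.Sz F m) r.2) =
          Nat.card ↥(M ⊓ stabilizer (Cfsg.Sz F m) x.2)) ∧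
      ∀ [Fintype (Cfsg.suzukiOvoid F m)],
        (Nat.card M : ℚ) - 1 =
          ((∑ p : Cfsg.suzukiOvoid F m, (Nat.card ↥(M ⊓ twoSub hS p) - 1) : ℕ) : ℚ) +
            (Nat.card M : ℚ) * ∑ r ∈ R, wgt (classE M r) (classA M r) := by
  classical
  have := Fintype.ofFinite (Idx A)
  obtain ⟨R, hR, hsurj, hsum⟩ := exists_reps hA M
  have key : ∀ r : Idx A, 1 < classA M r → 5 ≤ classA M r ∧
      (classE M r = 1 ∨ classE M r = 2 ∨ classE M r = 4) ∧
      Nat.card ↥(M ⊓ stabilizer (Cfsg.Sz F m) r.2) = classE M r * classA M r ∧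
      (2 ∣ classE M r → ∃ u ∈ M, orderOf u = 2) ∧ (classE M r = 4 → ∃ u ∈ M, orderOf u = 4) := by
    intro r hr
    obtain ⟨h5, e, he, hcard, h2, h4⟩ := inter_facts hA M r
    have e' : classE M r = e := by
      rw [classE, hcard, Nat.mul_div_cancel _ (by rw [classA] at hr; omega)]
    rw [e']
    exact ⟨h5 hr, he, hcard, h2, h4⟩
  refine ⟨R, ⟨fun r hr => (key r (hR r hr)).1, fun r hr => (key r (hR r hr)).2.1⟩, fun r hr => ?_,
    hsurj, ?_⟩
  · obtain ⟨h5, -, hcard, h2, h4⟩ := key r (hR r hr)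
    refine ⟨hcard, fun h => ?_, fun h => three_not_dvd_subgroup hA M
      (h.trans (Subgroup.card_dvd_of_le inf_le_left)), h2, h4⟩
    exact ((hA.good r.1).map_conj r.2.out).odd (h.trans (Subgroup.card_dvd_of_le inf_le_right))
  · intro _
    have h := congrArg (fun n : ℕ => (n : ℚ)) (card_sub_one hA M)
    simp only [Nat.cast_sub (Nat.card_pos (α := M)), Nat.cast_add, Nat.cast_one] at h
    rw [h, hsum]
    congr 2
    refine Finset.sum_congr rfl fun r hr => ?_
    rw [wgt, (key r (hR r hr)).2.2.1, classA]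
    push_cast
    rfl

theorem NoFix.le_stab_of_card {M : Subgroup (Cfsg.Sz F m)} {x : Idx A}
    (h : Nat.card ↥(M ⊓ stabilizer (Cfsg.Sz F m) x.2) = Nat.card M) :
    M ≤ stabilizer (Cfsg.Sz F m) x.2 := by
  have := Subgroup.eq_of_le_of_card_ge (inf_le_left : M ⊓ stabilizer (Cfsg.Sz F m) x.2 ≤ M) h.ge
  exact inf_eq_left.1 this

/-- A subgroup without involutions lies in a torus normalizer. -/
theorem odd_case (hA : Tori hS A) {M : Subgroup (Cfsg.Sz F m)} (hne : M ≠ ⊥)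
    (hodd : ∀ u ∈ M, orderOf u ≠ 2) : ∃ x : Idx A, M ≤ stabilizer (Cfsg.Sz F m) x.2 := by
  classical
  have := Fintype.ofFinite (Cfsg.suzukiOvoid F m)
  obtain ⟨R, hR, hfacts, -, heq⟩ := exists_classes hA M
  have h0 : ∀ p : Cfsg.suzukiOvoid F m, Nat.card ↥(M ⊓ twoSub hS p) - 1 = 0 := fun p => by
    suffices h : M ⊓ twoSub hS p = ⊥ by rw [h, Subgroup.card_bot]
    rw [Subgroup.eq_bot_iff_forall]
    intro g hg
    by_contra h1
    obtain ⟨v, hv, hv2, -⟩ := exists_involution hS hg h1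
    exact hodd v hv hv2
  have h := heq
  rw [Finset.sum_eq_zero (fun p _ => h0 p), Nat.cast_zero, zero_add] at h
  have hG : (1 : ℕ) < Nat.card M :=
    Finite.one_lt_card_iff_nontrivial.2 ((Subgroup.nontrivial_iff_ne_bot M).2 hne)
  have hG' : (1 : ℚ) < Nat.card M := by exact_mod_cast hG
  have hsum : ∑ r ∈ R, wgt (classE M r) (classA M r) = 1 - 1 / (Nat.card M : ℚ) := by
    field_simp
    linarith
  have he : ∀ r ∈ R, classE M r = 1 := by
    intro r hr
    rcases hR.cases r hr with e | e | e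
    · exact e
    all_goals
      obtain ⟨u, hu, hu2⟩ := (hfacts r hr).2.2.2.1 (by rw [e] <;> norm_num)
      exact absurd hu2 (hodd u hu)
  have hlt : (1 : ℚ) / (Nat.card M : ℚ) < 1 := by rw [div_lt_one (by linarith)]; exact hG'
  have hpos : (0 : ℚ) < 1 / (Nat.card M : ℚ) := by positivity
  obtain ⟨r, rfl⟩ := hR.eq_singleton (by rw [hsum]; linarith) 1 one_pos (fun r hr => (he r hr).le)
    (lt_of_lt_of_le (show _ < (1 : ℚ) by rw [hsum]; linarith) (by norm_num))
  have hr := Finset.mem_singleton_self r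
  refine ⟨r, NoFix.le_stab_of_card ?_⟩
  rw [(hfacts r hr).1, he r hr, one_mul]
  rw [Finset.sum_singleton, he r hr] at hsum
  exact wgt_odd (by have := hR.five r hr; omega) Nat.card_pos hsum

end CfsgLib.SuzukiSub
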