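import Cfsg.Agent.SuzukiSub.Borel
import Cfsg.Agent.SuzukiSub.Fld

/-!
# Subgroups of `Cfsg.Sz` in standard position
-/

set_option autoImplicit false
set_option linter.unusedSectionVars false

namespace CfsgLib.SuzukiSub

open CfsgLib.Suzuki CfsgLib.SuzukiLocal MulAction

variable {F : Type*} [Field F] [Fintype F] {m : ℕ} {hS : SzField F m}
  {M : Subgroup (Cfsg.Sz F m)}

theorem θ_fix_pow (z : ℕ) {x : F} (h : x ^ z = x) : θ m x ^ z = θ m x := by rw [← θ_pow, h]

theorem pow_pow_two (hS : SzField F m) (j : ℕ) (x y : F) :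
    (x + y) ^ (2 ^ j) = x ^ (2 ^ j) + y ^ (2 ^ j) := by
  have := hS.charP
  have : Fact (Nat.Prime 2) := ⟨Nat.prime_two⟩
  exact add_pow_char_pow x y 2 j

/-- `|centParam| = 2 ^ j` with `j ∣ 2m+1`, in the standard position the central coordinates are the
subfield of that order. -/
theorem cent_field (hM : NoFix M) (h1 : (1 : F) ∈ centParam hS M)
    (h4 : 4 ≤ Nat.card (centParam hS M)) :
    ∃ k, 1 ≤ k ∧ 2 * k + 1 ∣ 2 * m + 1 ∧ Nat.card (centParam hS M) = 2 ^ (2 * k + 1) ∧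
      (∀ b : F, b ∈ centParam hS M ↔ b ^ 2 ^ (2 * k + 1) = b) ∧
      (∀ μ : Fˣ, μ ∈ torParam hS M ↔ (μ : F) ^ 2 ^ (2 * k + 1) = μ) := by
  classical
  obtain ⟨hc, htr⟩ := centParam_eq hM one_ne_zero h1
  set V := centParam hS M
  set I := torParam hS M
  have hd : Nat.card V ∣ 2 ^ (2 * m + 1) := by
    rw [← hS.card_eq, ← Nat.card_eq_fintype_card]
    exact AddSubgroup.card_addSubgroup_dvd_card V
  obtain ⟨j, -, hj⟩ := (Nat.dvd_prime_pow Nat.prime_two).1 hd
  have hI : Nat.card I = 2 ^ j - 1 := by omega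
  have hgcd : j ∣ 2 * m + 1 := by
    have hdI : 2 ^ j - 1 ∣ 2 ^ (2 * m + 1) - 1 := by
      rw [← hI, ← hS.card_eq, ← Nat.card_eq_fintype_card, ← Nat.card_units]
      exact Subgroup.card_subgroup_dvd_card I
    have e := Nat.pow_sub_one_gcd_pow_sub_one 2 j (2 * m + 1)
    rw [Nat.gcd_eq_left hdI] at e
    have h2 : 2 ^ j = 2 ^ Nat.gcd j (2 * m + 1) := by
      have := Nat.one_le_two_pow (n := j)
      have := Nat.one_le_two_pow (n := Nat.gcd j (2 * m + 1))
      omega
    rw [Nat.pow_right_injective le_rfl h2]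
    exact Nat.gcd_dvd_right _ _
  have hjodd : j % 2 = 1 := by
    obtain ⟨c, hc'⟩ := hgcd
    have : (j * c) % 2 = 1 := by omega
    rw [Nat.mul_mod] at this
    rcases Nat.mod_two_eq_zero_or_one j with h | h
    · rw [h] at this; simp at this
    · exact h
  obtain ⟨k, rfl⟩ : ∃ k, j = 2 * k + 1 := ⟨j / 2, by omega⟩
  have hk : 1 ≤ k := by
    by_contra hk0
    have : k = 0 := by omega
    subst this
    norm_num at hj
    omega
  refine ⟨k, hk, hgcd, hj, ?_⟩
  set z := 2 ^ (2 * k + 1)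
  have hz : 2 ≤ z := Nat.le_self_pow (by omega) 2
  have hμz : ∀ μ ∈ I, (μ : F) ^ z = μ := by
    intro μ hμ
    have : μ ^ (z - 1) = 1 := by
      rw [← hI]
      exact orderOf_dvd_iff_pow_eq_one.1 (Subgroup.orderOf_dvd_natCard I hμ)
    have h' := congrArg Units.val this
    rw [Units.val_pow_eq_pow_val, Units.val_one] at h'
    rw [show z = z - 1 + 1 by omega, pow_succ, h', one_mul]
  set K : Set F := {x | x ^ z = x}
  have hK : Nat.card K ≤ z := by
    have hsub : K ⊆ ((Polynomial.X ^ z - Polynomial.X : Polynomial F).roots.toFinset : Set F) := by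
      intro x hx
      rw [Finset.mem_coe, Multiset.mem_toFinset,
        Polynomial.mem_roots (FiniteField.X_pow_card_sub_X_ne_zero F (by omega : 1 < z))]
      have hx' : x ^ z = x := hx
      simpa [sub_eq_zero] using hx'
    rw [Nat.card_coe_set_eq]
    refine (Set.ncard_le_ncard hsub (Finset.finite_toSet _)).trans ?_
    rw [Set.ncard_coe_finset]
    exact (Multiset.toFinset_card_le _).trans ((Polynomial.card_roots' _).trans
      (FiniteField.X_pow_card_sub_X_natDegree_eq F (by omega : 1 < z)).le)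
  have hVK : (V : Set F) ⊆ K := by
    intro b hb
    by_cases hb0 : b = 0
    · subst hb0
      exact zero_pow (by omega)
    obtain ⟨μ, hμ, rfl⟩ := htr b hb hb0
    show ((μ : F) * θ m (μ : F) * 1) ^ z = _
    rw [mul_pow, mul_pow, hμz μ hμ, θ_fix_pow z (hμz μ hμ), one_pow]
  have hVeq : (V : Set F) = K := by
    refine Set.eq_of_subset_of_ncard_le hVK ?_ (Set.toFinite _)
    rw [← Nat.card_coe_set_eq, ← Nat.card_coe_set_eq]
    exact hK.trans hj.ge
  refine ⟨fun b => ⟨fun hb => hVK hb, fun hb => hVeq.ge hb⟩, fun μ => ⟨hμz μ, fun hμ => ?_⟩⟩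
  have hb : (μ : F) * θ m (μ : F) * 1 ∈ V := by
    refine hVeq.ge ?_
    show ((μ : F) * θ m (μ : F) * 1) ^ z = _
    rw [mul_pow, mul_pow, hμ, θ_fix_pow z hμ, one_pow]
  obtain ⟨ν, hν, e⟩ := htr _ hb (by
    simp only [mul_one, ne_eq, mul_eq_zero, not_or]
    exact ⟨μ.ne_zero, fun e => μ.ne_zero (θ_eq_zero.1 e)⟩)
  rw [mul_one, mul_one] at e
  rwa [Units.ext (self_mul_θ_injective hS e)]

/-- In standard position the coordinates lie in the subfield. -/
theorem uni_coords (hM : NoFix M) (h1 : (1 : F) ∈ centParam hS M) {j : ℕ} (hz4 : 4 ≤ 2 ^ j)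
    (hV : ∀ b : F, b ∈ centParam hS M ↔ b ^ 2 ^ j = b)
    (hI : ∀ μ : Fˣ, μ ∈ torParam hS M ↔ (μ : F) ^ 2 ^ j = μ)
    (hT : ∀ μ : Fˣ, μ ∈ torParam hS M → torSz hS μ ∈ M)
    (hcard : Nat.card (centParam hS M) = 2 ^ j) :
    (∀ a b : F, uniEl hS a b ∈ M → a ^ 2 ^ j = a ∧ b ^ 2 ^ j = b) ∧
      ((∀ a ∈ firstParam hS M, a = 0) ∨
        (∀ a b : F, a ^ 2 ^ j = a → b ^ 2 ^ j = b → uniEl hS a b ∈ M)) := by
  classical
  have := hS.charP
  set z := 2 ^ j
  have hadd := pow_pow_two (F := F) hS j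
  have hsubfix : ∀ x y : F, x ^ z = x → y ^ z = y → (x + y) ^ z = x + y := fun x y hx hy => by
    rw [hadd, hx, hy]
  have hmulfix : ∀ x y : F, x ^ z = x → y ^ z = y → (x * y) ^ z = x * y := fun x y hx hy => by
    rw [mul_pow, hx, hy]
  have hinvfix : ∀ x : F, x ^ z = x → x⁻¹ ^ z = x⁻¹ := fun x hx => by rw [inv_pow, hx]
  have hscale : ∀ (μ : Fˣ), (μ : F) ^ z = μ → ∀ a b, uniEl hS a b ∈ M →
      uniEl hS (μ * a) (μ * θ m (μ : F) * b) ∈ M := by
    intro μ hμ a b h
    have ht := hT μ ((hI μ).2 hμ)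
    rw [← torSz_conj_uniEl]
    exact M.mul_mem (M.mul_mem ht h) (M.inv_mem ht)
  have ha : ∀ a b : F, uniEl hS a b ∈ M → a ^ z = a := by
    intro a b h
    have h2 := M.mul_mem h h
    rw [uniEl_sq hS] at h2
    have h3 : (θ m a * a) ^ z = θ m a * a := (hV _).1 h2
    refine self_mul_θ_injective hS ?_
    show a ^ z * θ m (a ^ z) = a * θ m a
    rw [θ_pow, mul_comm a, ← h3, mul_pow, mul_comm]
  -- a second coordinate over a unit first coordinate lies in the subfield
  have hone : ∀ c : F, uniEl hS 1 c ∈ M → c ^ z = c := by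
    intro c hc
    obtain ⟨μ, hμ0, hμ1, hμz⟩ : ∃ μ : F, μ ≠ 0 ∧ μ ≠ 1 ∧ μ ^ z = μ := by
      by_contra! hno
      have hsub : (centParam hS M : Set F) ⊆ {0, 1} := by
        intro b hb
        by_cases hb0 : b = 0
        · simp [hb0]
        · by_cases hb1 : b = 1
          · simp [hb1]
          · exact absurd ((hV b).1 hb) (hno b hb0 hb1)
      have := Set.ncard_le_ncard hsub (Set.toFinite _)
      rw [← Nat.card_coe_set_eq] at this
      have h2 : ({0, 1} : Set F).ncard ≤ 2 := (Set.ncard_insert_le _ _).trans (by simp)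
      change Nat.card ↥(centParam hS M) ≤ _ at this
      omega
    have hne1 : μ + 1 ≠ 0 := fun e => hμ1 (CharTwo.add_eq_zero.1 e)
    have hμ1z : (μ + 1) ^ z = μ + 1 := hsubfix _ _ hμz (one_pow z)
    have e1 := hscale (Units.mk0 μ hμ0) (by simpa using hμz) 1 c hc
    have e2 := hscale (Units.mk0 (μ + 1) hne1) (by simpa using hμ1z) 1 c hc
    simp only [Units.val_mk0, mul_one] at e1 e2
    have e3 := M.mul_mem e1 hc
    rw [uniEl_mul] at e3
    have e4 := M.mul_mem e3 (M.inv_mem e2)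
    rw [uniEl_inv, uniEl_mul] at e4
    have hzero : μ + 1 + (μ + 1) = 0 := CharTwo.add_self_eq_zero _
    rw [hzero] at e4
    set d := μ * θ m μ * c + c + θ m μ * 1 +
      ((μ + 1) * θ m (μ + 1) * c + θ m (μ + 1) * (μ + 1)) + θ m (μ + 1) * (μ + 1) with hd
    have hdV : d ∈ centParam hS M := e4
    have hdc : d = (μ + θ m μ) * c + θ m μ := by
      rw [hd, θ_add hS, θ_one]
      linear_combination (μ * θ m μ * c + c + θ m μ * μ + θ m μ + μ + 1) * hS.two_eq_zero
    have hθ : θ m μ ^ z = θ m μ := θ_fix_pow z hμz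
    have hsum : (μ + θ m μ) * c ∈ {x : F | x ^ z = x} := by
      show ((μ + θ m μ) * c) ^ z = _
      have h5 := hsubfix _ _ ((hV d).1 hdV) hθ
      rw [hdc, add_assoc, CharTwo.add_self_eq_zero, add_zero] at h5
      exact h5
    have hne : μ + θ m μ ≠ 0 := fun e => by
      rcases θ_fixed hS (CharTwo.add_eq_zero.1 e).symm with h | h
      · exact hμ0 h
      · exact hμ1 h
    have := hmulfix _ _ hsum (hinvfix _ (hsubfix _ _ hμz hθ))
    rwa [mul_comm (μ + θ m μ) c, mul_assoc, mul_inv_cancel₀ hne, mul_one] at this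
  have hnorm : ∀ a b : F, a ≠ 0 → uniEl hS a b ∈ M →
      uniEl hS 1 (a⁻¹ * θ m a⁻¹ * b) ∈ M := by
    intro a b ha0 h
    have := hscale (Units.mk0 a ha0)⁻¹ (by simpa using ha a b h) a b h
    rwa [Units.val_inv_eq_inv_val, Units.val_mk0, inv_mul_cancel₀ ha0] at this
  refine ⟨fun a b h => ⟨ha a b h, ?_⟩, ?_⟩
  · by_cases ha0 : a = 0
    · subst ha0; exact (hV b).1 h
    · have h5 := hone _ (hnorm a b ha0 h)
      have hθ0 : θ m a ≠ 0 := fun e => ha0 (θ_eq_zero.1 e)
      have : b = (a * θ m a) * (a⁻¹ * θ m a⁻¹ * b) := by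
        rw [θ_inv]; field_simp
      rw [this]
      exact hmulfix _ _ (hmulfix _ _ (ha a b h) (θ_fix_pow z (ha a b h))) h5
  · by_cases hW : ∀ a ∈ firstParam hS M, a = 0
    · exact Or.inl hW
    right
    push Not at hW
    obtain ⟨a₀, ⟨b₀, h₀⟩, ha₀⟩ := hW
    have hc := hnorm a₀ b₀ ha₀ h₀
    set c := a₀⁻¹ * θ m a₀⁻¹ * b₀
    have hcz := hone c hc
    intro a b haz hbz
    by_cases ha0 : a = 0
    · subst ha0; exact (hV b).2 hbz
    · have e1 := hscale (Units.mk0 a ha0) (by simpa using haz) 1 c hc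
      rw [Units.val_mk0, mul_one] at e1
      have hrest : b + a * θ m a * c ∈ centParam hS M :=
        (hV _).2 (hsubfix _ _ hbz (hmulfix _ _ (hmulfix _ _ haz (θ_fix_pow z haz)) hcz))
      have := M.mul_mem (mem_centParam.1 hrest) e1
      rwa [uniEl_mul, zero_add, θ_zero, zero_mul, add_zero, add_assoc, CharTwo.add_self_eq_zero,
        add_zero] at this

theorem smul_mem_orbit {g : Cfsg.Sz F m} (hg : g ∈ M) (p : Cfsg.suzukiOvoid F m) :
    g • p ∈ orbit M p := mem_orbit p (⟨g, hg⟩ : M)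

theorem coe_smul_ovoid (g : Cfsg.Sz F m) (p : Cfsg.suzukiOvoid F m) :
    ((g • p : Cfsg.suzukiOvoid F m) : Projectivization F (Fin 4 → F)) =
      (g : Matrix.SpecialLinearGroup (Fin 4) F) • (p : Projectivization F (Fin 4 → F)) := rfl

theorem smul_affPt_zero (hS : SzField F m) (a b : F) :
    ((uniEl hS a b • ovoidZero (F := F) (m := m) : Cfsg.suzukiOvoid F m) :
      Projectivization F (Fin 4 → F)) = affPt m a b := by
  show uni m a b • Cfsg.suzukiPointZero F = _
  rw [← affPt_zero (m := m), uni_smul_aff hS]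
  simp

/-- The part fixing `∞` acts freely on the other points. -/
theorem dvd_orbit_sub_one (hS : SzField F m) (M : Subgroup (Cfsg.Sz F m)) :
    Nat.card ↥(M ⊓ uniSub hS) ∣
      Nat.card (orbit M (ovoidInf (F := F) (m := m))) - 1 := by
  classical
  set S := M ⊓ uniSub hS
  set O := orbit M (ovoidInf (F := F) (m := m))
  let Y := {p : O // (p : Cfsg.suzukiOvoid F m) ≠ ovoidInf}
  have hmem : ∀ (g : S) (p : O), (g : Cfsg.Sz F m) • (p : Cfsg.suzukiOvoid F m) ∈ O := by
    intro g p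
    obtain ⟨w, hw⟩ := p.2
    refine ⟨⟨g, g.2.1⟩ * w, ?_⟩
    rw [← hw]
    exact mul_smul (g : Cfsg.Sz F m) (w : Cfsg.Sz F m) (ovoidInf (F := F) (m := m))
  have hinf : ∀ g : S, (g : Cfsg.Sz F m) • ovoidInf (F := F) (m := m) = ovoidInf := by
    intro g
    obtain ⟨a, b, e⟩ := g.2.2
    rw [e]
    exact Subtype.ext (uniEl_smul_infinity hS a b)
  let : MulAction S Y :=
    { smul := fun g p => ⟨⟨(g : Cfsg.Sz F m) • (p.1.1 : Cfsg.suzukiOvoid F m), hmem g p.1⟩,
        fun e => p.2 (smul_left_cancel (g : Cfsg.Sz F m) (e.trans (hinf g).symm))⟩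
      one_smul := fun p => Subtype.ext (Subtype.ext (one_smul (Cfsg.Sz F m) p.1.1))
      mul_smul := fun g h p => Subtype.ext (Subtype.ext (mul_smul (g : Cfsg.Sz F m) h p.1.1)) }
  have hfree : ∀ p : Y, stabilizer S p = ⊥ := by
    intro p
    rw [Subgroup.eq_bot_iff_forall]
    intro g hg
    have hfix : (g : Cfsg.Sz F m) • (p.1.1 : Cfsg.suzukiOvoid F m) = p.1.1 :=
      congrArg (fun q : Y => q.1.1) (mem_stabilizer_iff.1 hg)
    obtain ⟨a, b, e⟩ := g.2.2
    by_contra hne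
    have hne' : uniEl hS a b ≠ 1 := fun h => hne (Subtype.ext (e.trans h))
    rw [e] at hfix
    exact p.2 (Subtype.ext (eq_infinity_of_uniEl_fix hS hne' p.1.1.2 (congrArg Subtype.val hfix)))
  have hcard : Nat.card Y = Nat.card O - 1 := by
    let := Fintype.ofFinite O
    rw [Nat.card_congr (Equiv.subtypeEquivRight (q := fun p : O => p ≠ ⟨_, mem_orbit_self _⟩)
      fun p => not_congr ⟨fun h => Subtype.ext h, fun h => congrArg Subtype.val h⟩),
      Nat.card_eq_fintype_card, Fintype.card_subtype_compl, Fintype.card_subtype_eq,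
      Nat.card_eq_fintype_card]
  rw [← hcard, Nat.card_congr (selfEquivOrbitsQuotientProd hfree), Nat.card_prod]
  exact dvd_mul_left _ _

/-- The element swapping `∞` and `0`. -/
theorem swap_element (hI : ∀ μ : Fˣ, μ ∈ torParam hS M → torSz hS μ ∈ M) {μ₀ : Fˣ} (hμ₀ : μ₀ ≠ 1)
    (hμM : torSz hS μ₀ ∈ M) {g : Cfsg.Sz F m} (hg : g ∈ M)
    (hN : g ∈ Subgroup.normalizer ((torSz (F := F) hS).range : Set (Cfsg.Sz F m)))
    (hgT : ¬ ∃ μ ∈ torParam hS M, g = torSz hS μ) :
    ∃ ν : Fˣ, g = weylEl hS * torSz hS ν := by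
  have hww : (weylEl hS : Cfsg.Sz F m) * weylEl hS = 1 := Subtype.ext weyl_mul_weyl
  have himg : ∀ p : Cfsg.suzukiOvoid F m, (∀ ν, torSz hS ν • p = p) →
      g • p = ovoidInf ∨ g • p = ovoidZero := by
    intro p hp
    obtain ⟨ν, hν⟩ := (Subgroup.mem_normalizer_iff''.1 hN (torSz hS μ₀)).1 ⟨μ₀, rfl⟩
    refine fixed_torSz hS hμ₀ ?_
    have := conj_mem_stabilizer (k := g) (hp ν)
    rwa [hν, show g * (g⁻¹ * torSz hS μ₀ * g) * g⁻¹ = torSz hS μ₀ by group] at this
  rcases himg _ (fun ν => (torSz_smul_base hS ν).1) with h | h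
  · exfalso
    have h0 : g • ovoidZero (F := F) (m := m) = ovoidZero := by
      rcases himg _ (fun ν => (torSz_smul_base hS ν).2) with h' | h'
      · exact absurd (smul_left_cancel g (h.trans h'.symm)) ovoidInf_ne_zero
      · exact h'
    obtain ⟨ν, hν⟩ := (mem_pairStab_iff hS g).1 ⟨congrArg Subtype.val h, congrArg Subtype.val h0⟩
    refine hgT ⟨ν, ⟨0, 0, ?_⟩, hν.symm⟩
    rwa [uniEl_zero, one_mul, hν]
  · have h0 : g • ovoidZero (F := F) (m := m) = ovoidInf := by
      rcases himg _ (fun ν => (torSz_smul_base hS ν).2) with h' | h'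
      · exact h'
      · exact absurd (smul_left_cancel g (h.trans h'.symm)) ovoidInf_ne_zero
    obtain ⟨ν, hν⟩ := (mem_pairStab_iff hS (weylEl hS * g)).1
      ⟨show (weylEl hS * g) • Cfsg.suzukiPointInfinity F = _ by
        rw [mul_smul, show g • Cfsg.suzukiPointInfinity F = Cfsg.suzukiPointZero F from
          congrArg Subtype.val h]
        exact weyl_smul_zero,
       show (weylEl hS * g) • Cfsg.suzukiPointZero F = _ by
        rw [mul_smul, show g • Cfsg.suzukiPointZero F = Cfsg.suzukiPointInfinity F from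
          congrArg Subtype.val h0]
        exact weyl_smul_infinity⟩
    exact ⟨ν, by rw [hν, ← mul_assoc, hww, one_mul]⟩

theorem standard {A : Fin 3 → Subgroup (Cfsg.Sz F m)} (hA : Tori hS A) (hM : NoFix M)
    (h1 : (1 : F) ∈ centParam hS M) (h4 : 4 ≤ Nat.card (centParam hS M))
    (hT : ∀ μ : Fˣ, μ ∈ torParam hS M → torSz hS μ ∈ M) :
    ∃ k, 1 ≤ k ∧ 2 * k + 1 ∣ 2 * m + 1 ∧ M = fldSub hS (2 ^ (2 * k + 1)) := by
  classical
  have := hS.charP
  obtain ⟨k, hk, hdiv, hz, hV, hI⟩ := cent_field hM h1 h4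
  refine ⟨k, hk, hdiv, ?_⟩
  set z := 2 ^ (2 * k + 1) with hzdef
  obtain ⟨hcoord, hfull⟩ := uni_coords hM h1 (show 4 ≤ z by omega) hV hI hT hz
  have ht : Nat.card (torParam hS M) = z - 1 := by
    have := (centParam_eq hM one_ne_zero h1).1; omega
  have hz8 : 8 ≤ z := by
    calc 8 = 2 ^ 3 := rfl
      _ ≤ _ := Nat.pow_le_pow_right (by norm_num) (by omega)
  set s := Nat.card ↥(M ⊓ uniSub hS) with hs
  have hsz : (s = z ∧ ∀ a ∈ firstParam hS M, a = 0) ∨
      (s = z ^ 2 ∧ ∀ a b : F, a ^ z = a → b ^ z = b → uniEl hS a b ∈ M) := by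
    rw [hs, card_inf_uniSub, hz]
    rcases hfull with h | h
    · left
      refine ⟨?_, h⟩
      have : firstParam hS M = {0} := Set.eq_singleton_iff_unique_mem.2
        ⟨⟨0, by rw [uniEl_zero]; exact M.one_mem⟩, h⟩
      rw [this, Nat.card_eq_fintype_card]
      simp
    · right
      refine ⟨?_, h⟩
      rw [pow_two]
      congr 1
      rw [← hz]
      refine Nat.card_congr (Equiv.subtypeEquivRight fun a => ?_)
      rw [hV a]
      exact ⟨fun ⟨b, hb⟩ => (hcoord a b hb).1,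
        fun ha => ⟨0, h a 0 ha (zero_pow (by omega))⟩⟩
  obtain ⟨R, n, hR, hfacts, hsurj, hn, hn2, hMc, heq⟩ := equation hA hM one_ne_zero h1
  rw [← hs, ht] at hMc
  rw [← hs] at heq
  -- the split torus class
  set x₀ : Idx A := ⟨0, ((1 : Cfsg.Sz F m) :
    Cfsg.Sz F m ⧸ Subgroup.normalizer (A 0 : Set (Cfsg.Sz F m)))⟩ with hx₀
  have hmemT : ∀ g, g ∈ torOf x₀ ↔ g ∈ (torSz (F := F) hS).range := fun g => by
    rw [hx₀, mem_torOf_mk hA, inv_one, one_mul, mul_one, hA.split]
  have ha₀ : classA M x₀ = z - 1 := by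
    rw [← ht]
    symm
    refine Nat.card_eq_of_bijective (fun μ => ⟨torSz hS (μ : Fˣ), hT _ μ.2, (hmemT _).2 ⟨_, rfl⟩⟩)
      ⟨fun μ ν e => Subtype.ext (torSz_injective hS (congrArg Subtype.val e)), ?_⟩
    rintro ⟨g, hg, hgT⟩
    obtain ⟨μ, rfl⟩ := (hmemT g).1 hgT
    exact ⟨⟨μ, 0, 0, by rw [uniEl_zero, one_mul]; exact hg⟩, rfl⟩
  obtain ⟨r, hr, hra, hrs⟩ := hsurj x₀ (by omega)
  obtain ⟨hrcard, -, -, -⟩ := hfacts r hr
  rw [hrs, hra, ha₀] at hrcard
  have hz2 : 2 ∣ z := dvd_pow_self 2 (by omega)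
  have hne4 : classE M r ≠ 4 := by
    intro e
    rw [e] at hrcard
    have h' : Nat.card ↥(M ⊓ stabilizer (Cfsg.Sz F m) x₀.2) ∣ eT 0 * kT F m 0 := by
      rw [← hA.card_stab_coset 0 x₀.2]
      exact Subgroup.card_dvd_of_le inf_le_right
    rw [hrcard] at h'
    have h4' : 4 ∣ eT 0 * kT F m 0 := (dvd_mul_right 4 _).trans h'
    have hodd := ((kT_facts hS).1 0).2
    change 4 ∣ 2 * kT F m 0 at h4'
    omega
  have hsplit := Finset.add_sum_erase R (fun x => wgt (classE M x) (classA M x)) hr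
  set rest := ∑ x ∈ R.erase r, wgt (classE M x) (classA M x) with hrest
  have hRe : IsClass (R.erase r) (classE M) (classA M) :=
    ⟨fun x hx => hR.five x (Finset.mem_of_mem_erase hx),
      fun x hx => hR.cases x (Finset.mem_of_mem_erase hx)⟩
  have hzQ : (8 : ℚ) ≤ z := by exact_mod_cast hz8
  have hs8 : 8 ≤ s := by
    rcases hsz with ⟨h, -⟩ | ⟨h, -⟩ <;> rw [h]
    · exact hz8
    · nlinarith
  have hsQ : (8 : ℚ) ≤ s := by exact_mod_cast hs8
  have hnQ : (2 : ℚ) ≤ n := by exact_mod_cast hn2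
  have hcastM : (Nat.card M : ℚ) = n * (s * ((z : ℚ) - 1)) := by
    rw [← hMc]; push_cast [Nat.cast_sub (show 1 ≤ z by omega)]; ring
  have hT0 : (0 : ℚ) < (z : ℚ) - 1 := by linarith
  have hS0 : (0 : ℚ) < s := by linarith
  have hN0 : (0 : ℚ) < n := by linarith
  rw [hcastM, ← hsplit] at heq
  have hca : ((z - 1 : ℕ) : ℚ) = (z : ℚ) - 1 := by
    rw [Nat.cast_sub (show 1 ≤ z by omega), Nat.cast_one]
  -- the torus has index two
  have he2 : classE M r = 2 := by
    rcases hR.cases r hr with e | e | e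
    · exfalso
      rw [e, hra, ha₀] at heq
      have h5 : rest = 1 / ((s : ℚ) * ((z : ℚ) - 1)) - 1 / (n * (s * ((z : ℚ) - 1))) := by
        rw [wgt, hca, Nat.cast_one, one_mul] at heq
        field_simp at heq ⊢
        linarith
      have hlt : rest < 1 / 5 := by
        rw [h5]
        have : (0 : ℚ) < 1 / ((n : ℚ) * (s * ((z : ℚ) - 1))) := by positivity
        have : 1 / ((s : ℚ) * ((z : ℚ) - 1)) ≤ 1 / 5 := by
          rw [div_le_div_iff₀ (by positivity) (by norm_num)]; nlinarith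
        linarith
      have hpos : 0 < rest := by
        rw [h5, sub_pos, div_lt_div_iff₀ (by positivity) (by positivity)]
        nlinarith [mul_pos hS0 hT0]
      obtain ⟨x, hx⟩ : (R.erase r).Nonempty := by
        by_contra hne
        rw [Finset.not_nonempty_iff_eq_empty] at hne
        rw [hrest, hne, Finset.sum_empty] at hpos
        exact lt_irrefl _ hpos
      obtain ⟨h6, h7⟩ := hRe.wgt_ge hx
      linarith
    · exact e
    · exact absurd e hne4
  rw [he2, hra, ha₀] at heq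
  rw [he2] at hrcard
  obtain ⟨g, hgM, hgN, hgT⟩ : ∃ g ∈ M,
      g ∈ Subgroup.normalizer ((torSz (F := F) hS).range : Set (Cfsg.Sz F m)) ∧
      ¬ ∃ μ ∈ torParam hS M, g = torSz hS μ := by
    by_contra! hno
    have hle : M ⊓ stabilizer (Cfsg.Sz F m) x₀.2 ≤ M ⊓ torOf x₀ := by
      intro g hg
      have hgn : g ∈ Subgroup.normalizer (A 0 : Set (Cfsg.Sz F m)) := by
        have := (smul_mk_iff _ g 1).1 hg.2
        rwa [inv_one, one_mul, mul_one] at this
      rw [hA.split] at hgn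
      obtain ⟨μ, -, rfl⟩ := hno g hg.1 hgn
      exact ⟨hg.1, (hmemT _).2 ⟨μ, rfl⟩⟩
    have h6 := Subgroup.card_le_of_le hle
    rw [hrcard] at h6
    have : Nat.card ↥(M ⊓ torOf x₀) = z - 1 := ha₀
    omega
  obtain ⟨μ₀, hμ₀, hμ₀1⟩ : ∃ μ ∈ torParam hS M, μ ≠ 1 := by
    by_contra! hno
    have : torParam hS M = ⊥ := (Subgroup.eq_bot_iff_forall _).2 hno
    rw [this, Subgroup.card_bot] at ht
    omega
  obtain ⟨ν, hν⟩ := swap_element hT hμ₀1 (hT _ hμ₀) hgM hgN hgT
  have hginf : g • ovoidInf (F := F) (m := m) = ovoidZero := by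
    rw [hν, mul_smul, (torSz_smul_base hS ν).1]
    exact Subtype.ext weyl_smul_infinity
  -- orbit size
  obtain ⟨u, hu⟩ : ∃ u, n - 1 = s * u := by rw [hn, hs]; exact dvd_orbit_sub_one hS M
  have hu1 : 1 ≤ u := by
    rcases Nat.eq_zero_or_pos u with rfl | h
    · omega
    · exact h
  have hnu : n = u * s + 1 := by rw [mul_comm u]; omega
  have hrest' : rest = 1 / 2 - 1 / (2 * ((z : ℚ) - 1)) + 1 / (s * ((z : ℚ) - 1)) -
      1 / (s * ((z : ℚ) - 1) * (u * s + 1)) := by
    have hq : (n : ℚ) = u * s + 1 := by exact_mod_cast hnu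
    rw [← hq]
    rw [wgt, hca] at heq
    push_cast at heq
    field_simp at heq ⊢
    linarith
  have hzmod : 3 ∣ z + 1 := by
    have h : z % 3 = 2 := by
      rw [hzdef, pow_succ, pow_mul, Nat.mul_mod, Nat.pow_mod]
      norm_num
    omega
  obtain ⟨w, hw⟩ : ∃ w, z = 4 * w :=
    ⟨2 ^ (2 * k - 1), by rw [hzdef, show 2 * k + 1 = 2 + (2 * k - 1) by omega, pow_add]; rfl⟩
  obtain ⟨hu', hs2⟩ := big_case hRe (s := s) (u := u) hw hz8 hu1
    (hsz.imp And.left And.left)
    (fun x hx => (hfacts x (Finset.mem_of_mem_erase hx)).2.1)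
    (fun x hx => (hfacts x (Finset.mem_of_mem_erase hx)).2.2.1) hzmod
    (fun hsz' x hx e => by
      obtain ⟨a, ha, ha0⟩ := (hfacts x (Finset.mem_of_mem_erase hx)).2.2.2 e
      rcases hsz with ⟨-, h⟩ | ⟨h, -⟩
      · exact ha0 (h a ha)
      · rw [h] at hsz'; nlinarith)
    hrest'
  obtain ⟨-, hS2⟩ : s = z ^ 2 ∧ ∀ a b : F, a ^ z = a → b ^ z = b → uniEl hS a b ∈ M := by
    rcases hsz with ⟨h, -⟩ | h
    · rw [h] at hs2; nlinarith
    · exact h
  -- the orbit of `∞`
  set O := orbit M (ovoidInf (F := F) (m := m))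
  have hO : ∀ p ∈ O, p = ovoidInf ∨ ∃ a b : F, uniEl hS a b ∈ M ∧
      p = uniEl hS a b • ovoidZero (F := F) (m := m) := by
    let f : Option ↥(M ⊓ uniSub hS) → O := fun o => match o with
      | none => ⟨ovoidInf, mem_orbit_self _⟩
      | some v => ⟨(v : Cfsg.Sz F m) • ovoidZero (F := F) (m := m), ⟨⟨(v : Cfsg.Sz F m) * g,
          M.mul_mem v.2.1 hgM⟩, (mul_smul (v : Cfsg.Sz F m) g _).trans (by rw [hginf])⟩⟩
    have hf : Function.Injective f := by
      rintro (_ | ⟨v, hv, a, b, rfl⟩) (_ | ⟨v', hv', a', b', rfl⟩) e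
      · rfl
      · refine absurd (congrArg Subtype.val (congrArg Subtype.val e)) ?_
        show Cfsg.suzukiPointInfinity F ≠ _
        rw [smul_affPt_zero]
        exact (affPt_ne_infinity a' b').symm
      · refine absurd (congrArg Subtype.val (congrArg Subtype.val e)).symm ?_
        show Cfsg.suzukiPointInfinity F ≠ _
        rw [smul_affPt_zero]
        exact (affPt_ne_infinity a b).symm
      · have e' : ((uniEl hS a b • ovoidZero (F := F) (m := m) : Cfsg.suzukiOvoid F m) :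
            Projectivization F (Fin 4 → F)) = (uniEl hS a' b' • ovoidZero (F := F) (m := m) :
              Cfsg.suzukiOvoid F m) := congrArg Subtype.val (congrArg Subtype.val e)
        rw [smul_affPt_zero, smul_affPt_zero] at e'
        obtain ⟨rfl, rfl⟩ := affPt_injective e'
        rfl
    have hcard : Nat.card O ≤ Nat.card (Option ↥(M ⊓ uniSub hS)) := by
      rw [Finite.card_option, ← hs, ← hn, hnu, hu', one_mul]
    intro p hp
    obtain ⟨o, ho⟩ := (hf.bijective_of_nat_card_le hcard).2 ⟨p, hp⟩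
    rcases o with _ | ⟨v, hv, a, b, rfl⟩
    · exact Or.inl (congrArg Subtype.val ho).symm
    · exact Or.inr ⟨a, b, hv, (congrArg Subtype.val ho).symm⟩
  -- the torus part of `g` lies in the subfield
  have hνz : (ν : F) ^ z = ν := by
    set c := (ν : F) * θ m (ν : F) with hc
    have hc0 : c ≠ 0 := mul_ne_zero ν.ne_zero (fun e => ν.ne_zero (θ_eq_zero.1 e))
    have h01 : uniEl hS 0 1 ∈ M := h1
    set p : Cfsg.suzukiOvoid F m := g • (uniEl hS 0 1 • ovoidZero (F := F) (m := m))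
    have hp : p ∈ O := by
      have e : p = (g * uniEl hS 0 1 * g) • ovoidInf (F := F) (m := m) := by
        rw [mul_smul, mul_smul, hginf]
      rw [e]
      exact smul_mem_orbit (M.mul_mem (M.mul_mem hgM h01) hgM) _
    have hval : (p : Projectivization F (Fin 4 → F)) =
        affPt m (c / szF m 0 c) (0 / szF m 0 c) := by
      rw [show p = g • (uniEl hS 0 1 • ovoidZero (F := F) (m := m)) from rfl, coe_smul_ovoid,
        smul_affPt_zero, hν]
      show (weyl * tor m ν : Matrix.SpecialLinearGroup (Fin 4) F) • affPt m 0 1 = _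
      rw [mul_smul, tor_smul_aff hS, mul_zero, mul_one, ← hc, weyl_smul_aff hS (Or.inr hc0)]
    rcases hO p hp with e | ⟨a, b, hab, e⟩
    · exact absurd (hval.symm.trans (congrArg Subtype.val e)) (affPt_ne_infinity _ _)
    · rw [e, smul_affPt_zero] at hval
      obtain ⟨ea, -⟩ := affPt_injective hval
      have hd := (hcoord a b hab).1
      have hf : szF m 0 c = θ m c := by simp [szF]
      rw [hf] at ea
      have hθc : θ m c ≠ 0 := fun h => hc0 (θ_eq_zero.1 h)
      have key : ∀ d : F, d ≠ 0 → d = (d / θ m d * θ m (d / θ m d))⁻¹ := by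
        intro d hd0
        have hθd : θ m d ≠ 0 := fun h => hd0 (θ_eq_zero.1 h)
        rw [div_eq_mul_inv, θ_mul, θ_inv, θ_θ hS]
        field_simp
      have hcc : c = (a * θ m a)⁻¹ := by
        rw [ea]
        exact key c hc0
      have hcz : c ^ z = c := by rw [hcc, inv_pow, mul_pow, hd, θ_fix_pow z hd]
      refine self_mul_θ_injective hS ?_
      show (ν : F) ^ z * θ m ((ν : F) ^ z) = (ν : F) * θ m (ν : F)
      rw [θ_pow, ← mul_pow, ← hc, hcz]
  have htor : ∀ μ : Fˣ, (μ : F) ^ z = μ → torSz hS μ ∈ M := fun μ hμ => hT μ ((hI μ).2 hμ)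
  have hwM : weylEl hS ∈ M := by
    have := M.mul_mem hgM (M.inv_mem (htor ν hνz))
    rwa [hν, mul_inv_cancel_right] at this
  refine le_antisymm ?_ ?_
  · intro h hh
    have hborel : ∀ h ∈ M, h • ovoidInf (F := F) (m := m) = ovoidInf → h ∈ fldSub hS z := by
      intro h hh hfix
      obtain ⟨a, b, μ, rfl⟩ := stab_inf_eq hS hfix
      have hμ : μ ∈ torParam hS M := ⟨a, b, hh⟩
      have hab := M.mul_mem hh (M.inv_mem (hT μ hμ))
      rw [mul_inv_cancel_right] at hab
      exact mul_mem (uniEl_mem_fldSub hS (hcoord a b hab).1 (hcoord a b hab).2)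
        (torSz_mem_fldSub hS ((hI μ).1 hμ))
    rcases hO _ (⟨⟨h, hh⟩, rfl⟩ : h • ovoidInf (F := F) (m := m) ∈ O) with e | ⟨a, b, hab, e⟩
    · exact hborel h hh e
    · have hfix : ((uniEl hS a b * g)⁻¹ * h) • ovoidInf (F := F) (m := m) = ovoidInf := by
        rw [mul_smul, inv_smul_eq_iff, mul_smul, hginf]
        exact e
      have hrest2 := hborel _ (M.mul_mem (M.inv_mem (M.mul_mem hab hgM)) hh) hfix
      rw [show h = (uniEl hS a b * g) * ((uniEl hS a b * g)⁻¹ * h) by group]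
      refine mul_mem (mul_mem (uniEl_mem_fldSub hS (hcoord a b hab).1 (hcoord a b hab).2) ?_) hrest2
      rw [hν]
      exact mul_mem (weylEl_mem_fldSub hS z) (torSz_mem_fldSub hS hνz)
  · rw [fldSub, Subgroup.closure_le]
    rintro h (⟨a, b, ha, hb, rfl⟩ | ⟨μ, hμ, rfl⟩ | rfl)
    · exact hS2 a b ha hb
    · exact htor μ hμ
    · exact hwM

end CfsgLib.SuzukiSub
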